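import Cfsg.Agent.KFacts.MulY.FiTree
import Cfsg.Agent.KFacts.MulDef
import Cfsg.Agent.Bimonster.Split

/-!
# `Fi23` has no perfect double cover

The ten generators of the presented group lift to a perfect double cover with the exact relations: the braid relations
along the tree by the choice of the lifts, the commutations by the odd word `(a b c d e f h)^9`, the squares by its
square, the spider relation because a central element `s` with `s³ = 1` has odd order.
-/

set_option autoImplicit false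
set_option linter.unusedVariables false

namespace Cfsg.Agent.KFacts.MulY.Fi23

open Cfsg Cfsg.Agent.Bimonster Cfsg.Agent.Bimonster.Tits Cfsg.Agent.KFacts.MulY.Tree
open Cfsg.Agent.KFacts.MulY.FiTree Cfsg.Agent.KFacts.MulDef
open scoped commutatorElement

theorem ext_of_dbl {L X : Type*} [Group L] [Group X] {π : L →* X} {c : L} (h : Dbl π c) : Ext π :=
  ⟨h.surj, fun k hk g => by
    rcases (h.ker k).1 hk with rfl | rfl
    · rw [one_mul, mul_one]
    · exact h.cen g⟩

/-- moves for the commuting pairs -/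
def st23 : List (ℕ × ℕ × ℕ) := [(4, 12, 11), (4, 12, 13), (11, 4, 3), (12, 4, 3), (13, 4, 3), (3, 11, 0),
  (4, 11, 0), (11, 3, 2), (12, 3, 2), (13, 3, 2), (0, 3, 2), (2, 0, 6), (2, 6, 7), (3, 0, 1), (3, 0, 6), (3, 6, 7),
  (4, 0, 1), (4, 0, 6), (4, 1, 2), (4, 6, 7), (6, 2, 1), (7, 2, 1), (11, 2, 1), (12, 2, 1), (13, 2, 1), (7, 1, 0),
  (12, 1, 0), (13, 1, 0), (7, 0, 11), (7, 11, 12), (7, 12, 13), (11, 7, 6), (12, 0, 6), (13, 0, 6), (13, 0, 11)]

theorem st23_ok : allS S23 st23 4 12 = true := by decide +kernel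

variable {E P : Type*} [Group E] [Group P] {π : E →* P}

/-- an element whose square and cube are trivial -/
theorem eq_one_of_sq_cube {s : E} (h2 : s * s = 1) (h3 : s ^ 3 = 1) : s = 1 := by
  rwa [pow_three', h2, one_mul] at h3

theorem sq_pow_odd {s : E} (h2 : s * s = 1) (n : ℕ) : s ^ (2 * n + 1) = s := by
  rw [pow_succ, pow_mul, pow_two, h2, one_pow, one_mul]

/-- **Exact lifts of the ten elements** through a central extension by a group of exponent two. -/
theorem exists_lifts (h : Ext π) (h2 : ∀ k, π k = 1 → k * k = 1) {x : ℕ → P} (hx : CoxS S23 x)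
    (he : ev x e7W ^ 9 = 1) (hs : ev x spW ^ 10 = 1) :
    ∃ y : ℕ → E, (∀ i, π (y i) = x i) ∧ CoxS S23 y ∧ ev y e7W ^ 9 = 1 ∧ ev y spW ^ 10 = 1 := by
  obtain ⟨y, hy, hb⟩ := exists_lift h okS23 hx
  have hxy : (fun i => π (y i)) = x := funext hy
  have hba := braid_all okS23 hb
  -- commutations
  have h412 : ⁅y 4, y 12⁆ = 1 := by
    refine comm_of_odd h hx hy hba (i := 4) (j := 12) (l := [13, 12, 11, 0, 1, 2, 1, 0, 6]) (by decide)
      (by decide) (w := rep 9 e7W) (by decide) (by decide) ?_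
    have hW : π (ev y (rep 9 e7W)) = 1 := by
      rw [map_ev, hxy, ev_rep, he]
    rw [commutatorElement_def, ← h.cen _ hW]; group
  have hcm := lift_comm h okS23 hx hy hba st23_ok h412
  -- squares
  have hsq := lift_sq h okS23 hx hy hb
  have hz : π (y 0 * y 0) = 1 := by rw [map_mul, hy, hx.sq 0 (by decide)]
  have hart : ArtS S23 y (y 0 * y 0) := ⟨hsq, hcm, hba, h.cen _ hz⟩
  have h3x : ev x f3a ^ 9 = 1 := by rw [fiA_good hx, he]
  have hζ : π (ev y f3a ^ 9) = 1 := by rw [map_pow, map_ev, hxy, h3x]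
  have hz1 : y 0 * y 0 = 1 := by
    have h1 := cx_good hart
    rw [pow_two, h2 _ hζ, show (63 : ℕ) = 2 * 31 + 1 from rfl, sq_pow_odd (h2 _ hz)] at h1
    exact h1.symm
  have hcox : CoxS S23 y := ⟨fun i hi => by rw [hsq i hi, hz1], hcm, hba⟩
  -- the uniform sign
  obtain ⟨ζ, hζe⟩ : ∃ ζ, ζ = ev y f3a ^ 9 := ⟨_, rfl⟩
  rw [← hζe] at hζ
  have hζc := h.cen ζ hζ
  have hζ2 := h2 ζ hζ
  have hcox' := scale hζc hζ2 hcox
  have hy' : ∀ i, π (ζ * y i) = x i := fun i => by rw [map_mul, hζ, one_mul, hy]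
  have h3 : ev (fun i => ζ * y i) f3a ^ 9 = 1 := by
    have hl : f3a.length = 7 := by decide
    rw [Ext.ev_scale hζc, hl]
    have hc : Commute (ζ ^ 7) (ev y f3a) := (show Commute ζ (ev y f3a) from hζc _).pow_left 7
    rw [hc.mul_pow, ← pow_mul, ← hζe, show 7 * 9 = 2 * 31 + 1 from rfl, sq_pow_odd hζ2, hζ2]
  refine ⟨fun i => ζ * y i, hy', hcox', ?_, ?_⟩
  · rw [← fiA_good hcox', h3]
  · have hπ : π (ev (fun i => ζ * y i) spW ^ 10) = 1 := by
      rw [map_pow, map_ev, show (fun i => π (ζ * y i)) = x from funext hy', hs]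
    obtain ⟨g, k, hgk⟩ := sp_good hcox'
    have hc := h.cen _ hπ
    have e1 : ∀ g : E, g * ev (fun i => ζ * y i) spW ^ 10 * g⁻¹ = ev (fun i => ζ * y i) spW ^ 10 := fun g => by
      rw [← hc g]; group
    rw [e1, e1] at hgk
    exact eq_one_of_sq_cube (h2 _ hπ) (by rw [pow_three']; exact hgk)

theorem noDouble : NoDouble Spor.Fi23 := by
  intro L _ _ π c hd
  have hE := ext_of_dbl hd
  have h2 : ∀ k, π k = 1 → k * k = 1 := by
    intro k hk
    rcases (hd.ker k).1 hk with rfl | rfl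
    · exact one_mul 1
    · exact hd.sq
  obtain ⟨y, hy, hcox, he, hs⟩ := exists_lifts hE h2 fiW_cox fiW_e7 fiW_sp
  obtain ⟨θ, hθ⟩ := fi_hom (firel hcox he hs)
  have hid : π.comp θ = MonoidHom.id _ := by
    apply PresentedGroup.ext
    intro g
    show π (θ (PresentedGroup.of g)) = PresentedGroup.of g
    rw [hθ, hy]
    cases g <;> rfl
  exact hd.ne (hE.trivial_of_section hd.perf (σ := θ) (fun p => DFunLike.congr_fun hid p)
    ((hd.ker c).2 (Or.inr rfl)))

end Cfsg.Agent.KFacts.MulY.Fi23
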