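import Cfsg.Agent.KFacts.MulDef

/-!
# Towers of perfect double covers

* `dbl_quot`: the quotient by a subgroup of index two of the central kernel is a double cover.
* `exists_tower`: a central kernel of order divisible by four gives a tower of two double covers.
* `card_eq_two`: hence, without such towers, a non-trivial central kernel which is a 2-group has order two.
-/

set_option autoImplicit false
set_option linter.style.haveILetI false

namespace Cfsg.Agent.KFacts.MulY.Tower

open Subgroup Cfsg.Agent.KFacts.MulTwo Cfsg.Agent.KFacts.MulDef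
open scoped commutatorElement

universe u v

variable {K : Type u} {X : Type v} [Group K] [Finite K] [Group X]

/-- The quotient by a subgroup of index two of the central kernel. -/
theorem dbl_quot (hK : commutator K = ⊤) {f : K →* X} (hf : Function.Surjective f) (hZ : f.ker ≤ center K)
    {Z₀ : Subgroup K} [hn : Z₀.Normal] (hle : Z₀ ≤ f.ker) (hcard : Nat.card f.ker = 2 * Nat.card Z₀) :
    ∃ c ∈ f.ker, Dbl (QuotientGroup.lift Z₀ f hle) (QuotientGroup.mk' Z₀ c) := by
  have hcomm : ∀ a ∈ f.ker, ∀ b : K, b * a = a * b := fun a ha b => mem_center_iff.1 (hZ ha) b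
  let q := QuotientGroup.mk' Z₀
  have hq : Function.Surjective q := QuotientGroup.mk'_surjective _
  let π : K ⧸ Z₀ →* X := QuotientGroup.lift Z₀ f hle
  have hπ : ∀ x, π (q x) = f x := fun _ => rfl
  have hlt : ∃ c ∈ f.ker, c ∉ Z₀ := by
    by_contra hcon
    push Not at hcon
    have : f.ker = Z₀ := le_antisymm hcon hle
    rw [this] at hcard
    have := Nat.card_pos (α := Z₀)
    omega
  obtain ⟨c, hc, hc0⟩ := hlt
  have hq1 : ∀ x, q x = 1 ↔ x ∈ Z₀ := fun x => QuotientGroup.eq_one_iff x
  have htwo : ∀ x ∈ f.ker, x ∈ Z₀ ∨ c⁻¹ * x ∈ Z₀ := by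
    have hidx : (Z₀.subgroupOf f.ker).index = 2 := by
      have h1 := (Z₀.subgroupOf f.ker).card_mul_index
      rw [Nat.card_congr (subgroupOfEquivOfLe hle).toEquiv, hcard, mul_comm] at h1
      exact Nat.eq_of_mul_eq_mul_right Nat.card_pos h1
    intro x hx
    by_contra hcon
    push Not at hcon
    have h1 := (Subgroup.mul_mem_iff_of_index_two hidx (a := (⟨c, hc⟩ : f.ker)⁻¹) (b := ⟨x, hx⟩))
    simp only [mem_subgroupOf, coe_mul, coe_inv, inv_mem_iff] at h1
    exact hcon.2 (h1.2 ⟨fun h => absurd h hc0, fun h => absurd h hcon.1⟩)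
  refine ⟨c, hc, ⟨⟨?_, ?_, ?_, ?_⟩, ?_, ?_⟩⟩
  · exact fun h1 => hc0 ((hq1 c).1 h1)
  · show q c * q c = 1
    rw [← map_mul, hq1]
    rcases htwo (c * c) (mul_mem hc hc) with h1 | h1
    · exact h1
    · rw [inv_mul_cancel_left] at h1
      exact absurd h1 hc0
  · intro x
    obtain ⟨x, rfl⟩ := hq x
    show q c * q x = q x * q c
    rw [← map_mul, ← map_mul, hcomm c hc x]
  · exact commutator_top_of_surj q hq hK
  · exact fun y => (hf y).imp' q fun x hx => hx
  · intro x
    obtain ⟨x, rfl⟩ := hq x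
    show π (q x) = 1 ↔ q x = 1 ∨ q x = q c
    rw [hπ]
    constructor
    · intro hx
      rcases htwo x hx with h1 | h1
      · left; exact (hq1 x).2 h1
      · right
        have := (hq1 _).2 h1
        rw [map_mul, map_inv] at this
        exact (inv_mul_eq_one.1 this).symm
    · rintro (h1 | h1)
      · exact hle ((hq1 x).1 h1)
      · have h2 : q (c⁻¹ * x) = 1 := by rw [map_mul, map_inv, h1, inv_mul_cancel]
        have h3 := hle ((hq1 _).1 h2)
        have := mul_mem hc h3
        rwa [mul_inv_cancel_left] at this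

/-- A central kernel of order divisible by four gives a tower. -/
theorem exists_tower (hK : commutator K = ⊤) {f : K →* X} (hf : Function.Surjective f) (hZ : f.ker ≤ center K)
    (h4 : 4 ∣ Nat.card f.ker) :
    ∃ (L M : Type u) (_ : Group L) (_ : Group M) (_ : Finite L) (π : M →* X) (z : M) (ρ : L →* M) (c : L),
      Dbl π z ∧ Dbl ρ c := by
  obtain ⟨Z₁, h1, c1⟩ := exists_index_two hZ (dvd_trans ⟨2, rfl⟩ h4)
  have h2 : 2 ∣ Nat.card Z₁ := by
    rw [c1] at h4
    obtain ⟨k, hk⟩ := h4
    exact ⟨k, by omega⟩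
  obtain ⟨Z₂, h2', c2⟩ := exists_index_two (h1.trans hZ) h2
  have hn : ∀ {Z : Subgroup K}, Z ≤ center K → Z.Normal := fun {Z} hle => ⟨fun n hn g => by
    rw [mem_center_iff.1 (hle hn) g, mul_inv_cancel_right]; exact hn⟩
  have n1 : Z₁.Normal := hn (h1.trans hZ)
  have n2 : Z₂.Normal := hn (h2'.trans (h1.trans hZ))
  obtain ⟨z, -, hd⟩ := dbl_quot hK hf hZ h1 c1
  have hk : (QuotientGroup.mk' Z₁).ker = Z₁ := QuotientGroup.ker_mk' Z₁
  obtain ⟨c, -, he⟩ := dbl_quot (f := QuotientGroup.mk' Z₁) hK (QuotientGroup.mk'_surjective Z₁)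
    (hk.le.trans (h1.trans hZ)) (Z₀ := Z₂) (h2'.trans hk.ge) (by rw [hk]; exact c2)
  exact ⟨K ⧸ Z₂, K ⧸ Z₁, inferInstance, inferInstance, inferInstance, _, _, _, _, hd, he⟩

/-- Without towers, a non-trivial kernel which is a 2-group has order two. -/
theorem card_eq_two {Z : Subgroup K} (hp : IsPGroup 2 Z) (hne : Z ≠ ⊥) (h4 : ¬ 4 ∣ Nat.card Z) :
    Nat.card Z = 2 := by
  haveI : Fact (Nat.Prime 2) := ⟨Nat.prime_two⟩
  obtain ⟨n, hn⟩ := IsPGroup.iff_card.1 hp
  rcases n with _ | _ | n
  · exact absurd (Subgroup.card_eq_one.1 (by rw [hn, pow_zero])) hne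
  · rw [hn, zero_add, pow_one]
  · exact absurd ⟨2 ^ n, by rw [hn]; ring⟩ h4

omit [Finite K] in
theorem ker_equiv (e : K ⧸ center K ≃* X) :
    (e.toMonoidHom.comp (QuotientGroup.mk' (center K))).ker = center K := by
  ext x
  rw [MonoidHom.mem_ker]
  show e (QuotientGroup.mk' (center K) x) = 1 ↔ _
  rw [map_eq_one_iff e e.injective]
  exact QuotientGroup.eq_one_iff x

/-- The centre of a finite perfect group with central quotient `X`, `X` without perfect double cover. -/
theorem center_eq_bot (h : NoDouble X) (hK : commutator K = ⊤) (hp : IsPGroup 2 ↥(center K))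
    (e : K ⧸ center K ≃* X) : center K = ⊥ := by
  haveI : Fact (Nat.Prime 2) := ⟨Nat.prime_two⟩
  have hk := ker_equiv e
  have h1 := h.odd_card hK (f := e.toMonoidHom.comp (QuotientGroup.mk' (center K)))
    (e.surjective.comp (QuotientGroup.mk'_surjective _)) hk.le
  rw [hk] at h1
  obtain ⟨n, hn⟩ := IsPGroup.iff_card.1 hp
  rcases n with _ | n
  · exact Subgroup.card_eq_one.1 (by rw [hn, pow_zero])
  · exfalso
    rw [hn, pow_succ] at h1
    exact (Nat.not_even_iff_odd.2 h1) ⟨2 ^ n, by ring⟩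

end Cfsg.Agent.KFacts.MulY.Tower
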