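import Cfsg.Agent.KFacts.MulY.Tower
import Cfsg.Agent.MonsterN.CoverB

/-!
# The 2-part of the multiplier of the Baby Monster has order at most two

* `exists_lifts'`: lifts of elements with `BRels e b z₀` through a central extension by a group of order two.
* `no_tower`: there are no perfect central extensions `L → M → Spor.BabyMonster` with both kernels of order two.
* `not_four_dvd`: a central subgroup `Z` of the finite perfect group `K` with `K / Z ≃* Spor.BabyMonster` has order not
  divisible by four.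
* `card_center`: a perfect group with centre a non-trivial 2-group and central quotient `Spor.BabyMonster` has centre of
  order two.
-/

set_option autoImplicit false

namespace Cfsg.Agent.KFacts.MulY.B

open Cfsg Cfsg.Agent.TwoESix.Cox10 Cfsg.Agent.TwoESix.Lift Cfsg.Agent.R01.Lifts Cfsg.Agent.MonsterN.CoverB
open Cfsg.Agent.KFacts.MulDef
open scoped commutatorElement

universe u

theorem ext_of_dbl {L X : Type*} [Group L] [Group X] {π : L →* X} {c : L} (h : Dbl π c) : Ext π c where
  surj := h.surj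
  zz := h.sq
  zne := h.ne
  ker := h.ker
  comm := fun x => (h.cen x).symm

section Lift

variable {M E : Type*} [Group M] [Group E] {π : M →* E} {z : M}

/-- **Lifts of the eleven nodes**, the ninth power of `W213` arbitrary. -/
theorem exists_lifts' (h : Ext π z) {e : Fin 10 → E} {b z₀ : E} (he : BRels e b z₀) :
    ∃ (m : Fin 10 → M) (b' ζ : M), (∀ i, π (m i) = e i) ∧ π b' = b ∧ BRels m b' ζ ∧ π ζ = z₀ := by
  obtain ⟨m, hm, hl, hsp⟩ := exists_cox' h he.lift he.spider he.e231
  have hsq := fun i => sq hl i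
  have esq := fun i => sq he.lift i
  -- the lift of `b`
  have hbe : e 0 * b * e 0 = b * e 0 * b := by
    have h1 : (b * e 0 * b) * (e 0 * b * e 0) = 1 := by
      rw [← he.b0]; simp only [pow_succ, pow_zero, one_mul, mul_assoc]
    have ib : b⁻¹ = b := inv_eq_of_mul_eq_one_left he.sqb
    have ie : (e 0)⁻¹ = e 0 := inv_eq_of_mul_eq_one_left (esq 0)
    rw [eq_inv_of_mul_eq_one_right h1]
    simp only [mul_inv_rev, ib, ie, mul_assoc]
  obtain ⟨b', hb', hbb⟩ := exists_braid h hbe (m 0) (hm 0)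
  have hconj : (m 0 * b') * m 0 * (m 0 * b')⁻¹ = b' := conj_braid hbb
  have hsqb : b' * b' = 1 := by
    calc b' * b' = ((m 0 * b') * m 0 * (m 0 * b')⁻¹) * ((m 0 * b') * m 0 * (m 0 * b')⁻¹) := by rw [hconj]
      _ = (m 0 * b') * (m 0 * m 0) * (m 0 * b')⁻¹ := by group
      _ = 1 := by rw [hsq 0, mul_one, mul_inv_cancel]
  have hb0 : (b' * m 0) ^ 3 = 1 := by
    calc (b' * m 0) ^ 3 = (b' * m 0 * b') * (m 0 * b' * m 0) := by
          simp only [pow_succ, pow_zero, one_mul, mul_assoc]
      _ = (m 0 * b' * m 0) * (m 0 * b' * m 0) := by rw [hbb]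
      _ = m 0 * b' * (m 0 * m 0) * b' * m 0 := by group
      _ = m 0 * (b' * b') * m 0 := by rw [hsq 0]; group
      _ = 1 := by rw [hsqb, mul_one, hsq 0]
  have hcomm2 : ∀ i : Fin 10, i ≠ 0 → i ≠ 1 → Commute b' (m i) := by
    intro i h0 h1
    have hl2 : lab i 0 = 2 := by
      revert i; decide
    have h2 : Commute (m i) (m 0) := comm_of hl hl2
    have h3 := comm_conj h (g := m 0 * b') h2 (by
      rw [map_mul, hm, hm, hb']
      exact (comm_of he.lift hl2).symm.mul_left (he.bc i h0))
    rw [hconj] at h3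
    exact h3.symm
  have hcomm1 : Commute b' (m 1) := by
    have h3 := comm_conj h (g := m 2 * m 1) (hcomm2 2 (by decide) (by decide)) (by
      rw [map_mul, hm, hm, hb']
      exact Commute.mul_left (Commute.symm (he.bc 2 (by decide))) (Commute.symm (he.bc 1 (by decide))))
    rw [conj_braid (braid hl (i := 2) (j := 1) (by decide))] at h3
    exact h3
  have hbc : ∀ i, i ≠ 0 → b' * m i = m i * b' := by
    intro i hi
    by_cases h1 : i = 1
    · subst h1; exact hcomm1
    · exact hcomm2 i hi h1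
  -- the signs
  have h231 : ev m W231 ^ 9 = 1 ∨ ev m W231 ^ 9 = z := by
    apply (h.ker _).1
    rw [map_pow, ev_map, ← he.e231]
    congr 2
    funext i; exact hm i
  have l2 : W231.length = 7 := rfl
  have hm' : ∀ i, π (m i * z) = e i := fun i => by rw [map_mul, h.mapz, mul_one]; exact hm i
  have hbz : π (b' * z) = b := by rw [map_mul, h.mapz, mul_one]; exact hb'
  rcases h231 with h2 | h2
  · refine ⟨m, b', ev m W213 ^ 9, hm, hb', ⟨hl, hsp, h2, rfl, hsqb, hb0, hbc⟩, ?_⟩
    rw [map_pow, ev_map, ← he.e213]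
    congr 2
    funext i; exact hm i
  · refine ⟨fun i => m i * z, b' * z, ev (fun i => m i * z) W213 ^ 9, hm', hbz,
      ⟨lift_mul_z h hl, spider_mul_z h hsp, ?_, rfl, ?_, ?_, ?_⟩, ?_⟩
    · rw [ev7_mul_z h m l2, h2, h.zz]
    · rw [mul_z_mul h, hsqb]
    · show (b' * z * (m 0 * z)) ^ 3 = 1
      rw [mul_z_mul h, hb0]
    · intro i hi
      show b' * z * (m i * z) = m i * z * (b' * z)
      rw [mul_z_mul h, mul_z_mul h, hbc i hi]
    · rw [map_pow, ev_map, ← he.e213]
      congr 2
      funext i; exact hm' i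

end Lift

/-- **No tower of two perfect double covers** above the Baby Monster. -/
theorem no_tower {M L : Type*} [Group M] [Group L] {π : M →* Spor.BabyMonster} {z : M} (h : Ext π z)
    (hperf : commutator M = ⊤) {ρ : L →* M} {c : L} (hρ : Ext ρ c) (hL : commutator L = ⊤) : False := by
  obtain ⟨m, b, hm, hb, hr, htop⟩ := exists_nodes h hperf
  obtain ⟨n, b', ζ, hn, hb', hr', hζ⟩ := exists_lifts' hρ hr
  -- the lifts generate
  let H : Subgroup L := Subgroup.closure (insert b' (Set.range n))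
  have hmem : ∀ x : L, ∃ y ∈ H, ∃ k : L, (k = 1 ∨ k = c) ∧ x = y * k := by
    intro x
    have h1 : ρ x ∈ Subgroup.map ρ H := by
      rw [MonoidHom.map_closure]
      have : insert b (Set.range m) ⊆ ρ '' insert b' (Set.range n) := by
        rintro x (rfl | ⟨y, rfl⟩)
        · exact ⟨b', Set.mem_insert _ _, hb'⟩
        · exact ⟨n y, Set.mem_insert_of_mem _ ⟨y, rfl⟩, hn y⟩
      exact Subgroup.closure_mono this (htop ▸ Subgroup.mem_top _)
    obtain ⟨y, hy, hxy⟩ := h1
    rcases hρ.map_eq.1 hxy.symm with h2 | h2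
    · exact ⟨y, hy, 1, Or.inl rfl, by rw [h2, mul_one]⟩
    · exact ⟨y, hy, c, Or.inr rfl, h2⟩
  have hH : H = ⊤ := by
    rw [eq_top_iff, ← hL, commutator_def, Subgroup.commutator_le]
    intro x _ y _
    obtain ⟨x', hx, k, hk, rfl⟩ := hmem x
    obtain ⟨y', hy, l, hl, rfl⟩ := hmem y
    have ck : ∀ k : L, (k = 1 ∨ k = c) → ∀ g : L, g * k = k * g := by
      rintro k (rfl | rfl) g
      · rw [mul_one, one_mul]
      · exact hρ.comm g
    have e : ⁅x' * k, y' * l⁆ = ⁅x', y'⁆ := by
      rw [commutatorElement_def, commutatorElement_def]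
      have c1 := ck k hk
      have c2 := ck l hl
      calc x' * k * (y' * l) * (x' * k)⁻¹ * (y' * l)⁻¹
          = x' * (k * y') * l * k⁻¹ * x'⁻¹ * (y' * l)⁻¹ := by group
        _ = x' * (y' * k) * l * k⁻¹ * x'⁻¹ * (y' * l)⁻¹ := by rw [c1]
        _ = x' * y' * (k * l) * k⁻¹ * x'⁻¹ * (y' * l)⁻¹ := by group
        _ = x' * y' * (l * k) * k⁻¹ * x'⁻¹ * (y' * l)⁻¹ := by rw [c2 k]
        _ = x' * y' * (l * x'⁻¹) * (y' * l)⁻¹ := by group
        _ = x' * y' * (x'⁻¹ * l) * (y' * l)⁻¹ := by rw [c2 x'⁻¹]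
        _ = _ := by group
    rw [e]
    exact H.mul_mem (H.mul_mem (H.mul_mem hx hy) (H.inv_mem hx)) (H.inv_mem hy)
  have hcen : ∀ g : L, Commute g ζ := hr'.z_central hH
  -- the quotient by `ζ`
  have hN : (Subgroup.zpowers ζ).Normal := by
    constructor
    intro x hx g
    obtain ⟨k, rfl⟩ := Subgroup.mem_zpowers_iff.1 hx
    rw [((hcen g).zpow_right k).eq, mul_inv_cancel_right]
    exact hx
  let q := QuotientGroup.mk' (Subgroup.zpowers ζ)
  have hq1 : q ζ = 1 := (QuotientGroup.eq_one_iff ζ).2 (Subgroup.mem_zpowers ζ)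
  have hr1 : BRels (fun i => q (n i)) (q b') 1 := by
    have := hr'.map q
    rwa [hq1] at this
  obtain ⟨σ, hσb, hσ⟩ := hr1.exists_hom
  have hπζ : π (ρ ζ) = 1 := by
    rw [hζ]
    exact h.mapz
  let τ : L ⧸ Subgroup.zpowers ζ →* Spor.BabyMonster :=
    QuotientGroup.lift (Subgroup.zpowers ζ) (π.comp ρ) (by
      rw [Subgroup.zpowers_le]
      exact hπζ)
  have hτ : ∀ x, τ (q x) = π (ρ x) := fun _ => rfl
  -- `σ` is surjective and `τ` is a left inverse
  have hσs : ∀ x : L, ∃ y, σ y = q x := by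
    intro x
    have h1 : H ≤ σ.range.comap q := by
      refine (Subgroup.closure_le _).2 ?_
      rintro y (rfl | ⟨i, rfl⟩)
      · exact ⟨b1, hσb⟩
      · exact ⟨e0 i, hσ i⟩
    have h2 := h1 (hH ▸ Subgroup.mem_top x)
    exact h2
  have hτσ : τ.comp σ = MonoidHom.id _ := by
    apply hom_ext
    · show τ (σ b1) = b1
      rw [hσb, hτ, hb', hb]
    · intro i
      show τ (σ (e0 i)) = e0 i
      rw [hσ, hτ, hn, hm]
  -- the kernel of `L → B` is `⟨ζ⟩`
  obtain ⟨y, hy⟩ := hσs c
  have h1 : τ (σ y) = y := DFunLike.congr_fun hτσ y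
  rw [hy, hτ, hρ.mapz, map_one] at h1
  rw [← h1, map_one] at hy
  have h2 : c ∈ Subgroup.zpowers ζ := (QuotientGroup.eq_one_iff c).1 hy.symm
  obtain ⟨k, hk⟩ := Subgroup.mem_zpowers_iff.1 h2
  rcases Int.even_or_odd' k with ⟨j, rfl | rfl⟩
  · rw [zpow_mul, zpow_ofNat, pow_two, hr'.zz, one_zpow] at hk
    exact hρ.zne hk.symm
  · rw [zpow_add, zpow_mul, zpow_ofNat, pow_two, hr'.zz, one_zpow, one_mul, zpow_one] at hk
    have h3 : ρ ζ = 1 := by rw [hk]; exact hρ.mapz
    rw [hζ] at h3
    exact h.zne h3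

/-- A central subgroup `Z` of the finite perfect group `K` with `K / Z ≃* Spor.BabyMonster` has order not divisible by
four. -/
theorem not_four_dvd {K : Type u} [Group K] [Finite K] (hK : commutator K = ⊤) {f : K →* Spor.BabyMonster}
    (hf : Function.Surjective f) (hZ : f.ker ≤ Subgroup.center K) : ¬ 4 ∣ Nat.card f.ker := by
  intro h4
  obtain ⟨L, M, _, _, _, π, z, ρ, c, h1, h2⟩ := Tower.exists_tower hK hf hZ h4
  exact no_tower (ext_of_dbl h1) h1.perf (ext_of_dbl h2) h2.perf

/-- **The 2-part of the multiplier of the Baby Monster**: a finite perfect group with centre a non-trivial 2-group and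
central quotient `Spor.BabyMonster` has centre of order two. -/
theorem card_center {K : Type u} [Group K] [Finite K] (hK : commutator K = ⊤)
    (hp : IsPGroup 2 ↥(Subgroup.center K)) (hne : Subgroup.center K ≠ ⊥)
    (e : K ⧸ Subgroup.center K ≃* Spor.BabyMonster) : Nat.card ↥(Subgroup.center K) = 2 := by
  refine Tower.card_eq_two hp hne fun h4 => ?_
  have hk := Tower.ker_equiv e
  exact not_four_dvd hK (f := e.toMonoidHom.comp (QuotientGroup.mk' (Subgroup.center K)))
    (e.surjective.comp (QuotientGroup.mk'_surjective _)) hk.le (by rw [hk]; exact h4)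

end Cfsg.Agent.KFacts.MulY.B
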