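import Mathlib

/-!
# Lifting a conjugacy class with perfect centralizer to a central extension (helper249)

`π : L → K` a central extension, `a ∈ L` such that the centralizer of `π a` is perfect. Then everything over the
centralizer of `π a` commutes with `a`, so the conjugacy class of `π a` lifts bijectively: `lf π a k`.
-/

set_option autoImplicit false

namespace Cfsg.Agent.KFacts.MulY.ClassLift

open Subgroup

variable {L K : Type*} [Group L] [Group K]

/-- Central extension. -/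
structure Ext (π : L →* K) : Prop where
  surj : Function.Surjective π
  cen : ∀ z : L, π z = 1 → ∀ x : L, z * x = x * z

/-- Everything over a perfect centralizer commutes with the lift. -/
theorem commute_of_perfect {π : L →* K} (h : Ext π) (a : L)
    (hp : centralizer ({π a} : Set K) ≤ ⁅centralizer ({π a} : Set K), centralizer ({π a} : Set K)⁆)
    {g : L} (hg : π g * π a = π a * π g) : g * a = a * g := by
  set C := centralizer ({π a} : Set K) with hC
  have hmap : (C.comap π).map π = C := Subgroup.map_comap_eq_self_of_surjective h.surj C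
  have h1 : π g ∈ ⁅C, C⁆ := hp (mem_centralizer_singleton_iff.2 hg)
  have h2 : (⁅C.comap π, C.comap π⁆).map π = ⁅C, C⁆ := by
    rw [Subgroup.map_commutator, hmap]
  rw [← h2] at h1
  obtain ⟨d, hd, hdg⟩ := h1
  have h3 : ⁅C.comap π, C.comap π⁆ ≤ centralizer ({a} : Set L) := by
    rw [Subgroup.commutator_le]
    intro x hx y hy
    -- `x a x⁻¹ = ζ a`
    have hz : ∀ x ∈ C.comap π, ∀ w : L, (x * a * x⁻¹ * a⁻¹) * w = w * (x * a * x⁻¹ * a⁻¹) := by
      intro x hx
      apply h.cen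
      have h4 : π x * π a = π a * π x := mem_centralizer_singleton_iff.1 hx
      rw [map_mul, map_mul, map_mul, map_inv, map_inv, h4]; group
    rw [mem_centralizer_singleton_iff, commutatorElement_def]
    have hx' := hz x hx
    have hy' := hz y hy
    have ex : x * a * x⁻¹ = (x * a * x⁻¹ * a⁻¹) * a := by group
    have ey : y * a * y⁻¹ = (y * a * y⁻¹ * a⁻¹) * a := by group
    set u := x * a * x⁻¹ * a⁻¹ with hu
    set v := y * a * y⁻¹ * a⁻¹ with hv
    have ex' : x⁻¹ * a * x = u⁻¹ * a := by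
      have : a = u * (x⁻¹ * a * x) := by
        calc a = x⁻¹ * (x * a * x⁻¹) * x := by group
          _ = x⁻¹ * (u * a) * x := by rw [ex]
          _ = x⁻¹ * (a * u) * x := by rw [hx' a]
          _ = x⁻¹ * a * (u * x) := by group
          _ = x⁻¹ * a * (x * u) := by rw [hx' x]
          _ = (x⁻¹ * a * x) * u := by group
          _ = u * (x⁻¹ * a * x) := by rw [hx']
      rw [eq_inv_mul_iff_mul_eq]; exact this.symm
    have ey' : y⁻¹ * a * y = v⁻¹ * a := by
      have : a = v * (y⁻¹ * a * y) := by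
        calc a = y⁻¹ * (y * a * y⁻¹) * y := by group
          _ = y⁻¹ * (v * a) * y := by rw [ey]
          _ = y⁻¹ * (a * v) * y := by rw [hy' a]
          _ = y⁻¹ * a * (v * y) := by group
          _ = y⁻¹ * a * (y * v) := by rw [hy' y]
          _ = (y⁻¹ * a * y) * v := by group
          _ = v * (y⁻¹ * a * y) := by rw [hy']
      rw [eq_inv_mul_iff_mul_eq]; exact this.symm
    have hui : ∀ w : L, u⁻¹ * w = w * u⁻¹ := fun w => by
      rw [inv_mul_eq_iff_eq_mul, ← mul_assoc, hx' w, mul_inv_cancel_right]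
    have hvi : ∀ w : L, v⁻¹ * w = w * v⁻¹ := fun w => by
      rw [inv_mul_eq_iff_eq_mul, ← mul_assoc, hy' w, mul_inv_cancel_right]
    have key : (x * y * x⁻¹ * y⁻¹) * a * (x * y * x⁻¹ * y⁻¹)⁻¹ = a := by
      calc (x * y * x⁻¹ * y⁻¹) * a * (x * y * x⁻¹ * y⁻¹)⁻¹
          = x * (y * (x⁻¹ * (y⁻¹ * a * y) * x) * y⁻¹) * x⁻¹ := by group
        _ = x * (y * (x⁻¹ * (v⁻¹ * a) * x) * y⁻¹) * x⁻¹ := by rw [ey']
        _ = x * (y * ((x⁻¹ * v⁻¹) * a * x) * y⁻¹) * x⁻¹ := by group
        _ = x * (y * ((v⁻¹ * x⁻¹) * a * x) * y⁻¹) * x⁻¹ := by rw [hvi x⁻¹]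
        _ = x * (y * (v⁻¹ * (x⁻¹ * a * x)) * y⁻¹) * x⁻¹ := by group
        _ = x * (y * (v⁻¹ * (u⁻¹ * a)) * y⁻¹) * x⁻¹ := by rw [ex']
        _ = x * ((y * v⁻¹) * (u⁻¹ * a) * y⁻¹) * x⁻¹ := by group
        _ = x * ((v⁻¹ * y) * (u⁻¹ * a) * y⁻¹) * x⁻¹ := by rw [hvi y]
        _ = x * (v⁻¹ * ((y * u⁻¹) * a * y⁻¹)) * x⁻¹ := by group
        _ = x * (v⁻¹ * ((u⁻¹ * y) * a * y⁻¹)) * x⁻¹ := by rw [hui y]
        _ = x * (v⁻¹ * (u⁻¹ * (y * a * y⁻¹))) * x⁻¹ := by group
        _ = x * (v⁻¹ * (u⁻¹ * (v * a))) * x⁻¹ := by rw [ey]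
        _ = x * ((v⁻¹ * u⁻¹) * v * a) * x⁻¹ := by group
        _ = x * ((u⁻¹ * v⁻¹) * v * a) * x⁻¹ := by rw [hvi u⁻¹]
        _ = (x * u⁻¹) * a * x⁻¹ := by group
        _ = (u⁻¹ * x) * a * x⁻¹ := by rw [hui x]
        _ = u⁻¹ * (x * a * x⁻¹) := by group
        _ = u⁻¹ * (u * a) := by rw [ex]
        _ = a := by group
    exact mul_inv_eq_iff_eq_mul.1 key
  have h4 := h3 hd
  rw [mem_centralizer_singleton_iff] at h4
  have h5 := h.cen (d⁻¹ * g) (by rw [map_mul, map_inv, hdg, inv_mul_cancel])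
  calc g * a = d * ((d⁻¹ * g) * a) := by group
    _ = d * (a * (d⁻¹ * g)) := by rw [h5 a]
    _ = (d * a) * (d⁻¹ * g) := by group
    _ = (a * d) * (d⁻¹ * g) := by rw [h4]
    _ = a * g := by group

open Classical in
/-- The canonical lift of the conjugates of `π a`. -/
noncomputable def lf (π : L →* K) (a : L) (k : K) : L :=
  if h : ∃ g : L, π (g * a * g⁻¹) = k then h.choose * a * h.choose⁻¹ else 1

variable {π : L →* K} {a : L}

theorem lf_eq (hcom : ∀ g, π g * π a = π a * π g → g * a = a * g) (g : L) :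
    lf π a (π (g * a * g⁻¹)) = g * a * g⁻¹ := by
  have hex : ∃ g' : L, π (g' * a * g'⁻¹) = π (g * a * g⁻¹) := ⟨g, rfl⟩
  unfold lf
  rw [dif_pos hex]
  have h1 := hex.choose_spec
  set g' := hex.choose
  have h2 : (g⁻¹ * g') * a = a * (g⁻¹ * g') := by
    apply hcom
    rw [map_mul, map_inv]
    rw [map_mul, map_mul, map_inv, map_mul, map_mul, map_inv] at h1
    calc (π g)⁻¹ * π g' * π a = (π g)⁻¹ * (π g' * π a * (π g')⁻¹) * π g' := by group
      _ = (π g)⁻¹ * (π g * π a * (π g)⁻¹) * π g' := by rw [h1]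
      _ = π a * ((π g)⁻¹ * π g') := by group
  calc g' * a * g'⁻¹ = g * ((g⁻¹ * g') * a) * g'⁻¹ := by group
    _ = g * (a * (g⁻¹ * g')) * g'⁻¹ := by rw [h2]
    _ = g * a * g⁻¹ := by group

theorem exists_of_isConj (hs : Function.Surjective π) {k : K} (hk : IsConj (π a) k) :
    ∃ g : L, π (g * a * g⁻¹) = k := by
  obtain ⟨c, hc⟩ := isConj_iff.1 hk
  obtain ⟨g, rfl⟩ := hs c
  exact ⟨g, by rw [map_mul, map_mul, map_inv, hc]⟩

theorem map_lf (hs : Function.Surjective π) (hcom : ∀ g, π g * π a = π a * π g → g * a = a * g)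
    {k : K} (hk : IsConj (π a) k) : π (lf π a k) = k := by
  obtain ⟨g, rfl⟩ := exists_of_isConj hs hk
  rw [lf_eq hcom]

theorem lf_conj (hs : Function.Surjective π) (hcom : ∀ g, π g * π a = π a * π g → g * a = a * g)
    {k : K} (hk : IsConj (π a) k) (x : L) :
    lf π a (π x * k * (π x)⁻¹) = x * lf π a k * x⁻¹ := by
  obtain ⟨g, rfl⟩ := exists_of_isConj hs hk
  rw [lf_eq hcom]
  have h1 : π x * π (g * a * g⁻¹) * (π x)⁻¹ = π ((x * g) * a * (x * g)⁻¹) := by
    rw [← map_inv, ← map_mul, ← map_mul]; congr 1; group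
  rw [h1, lf_eq hcom]; group

theorem lf_comm (hs : Function.Surjective π) (hcom : ∀ g, π g * π a = π a * π g → g * a = a * g)
    {k : K} (hk : IsConj (π a) k) (x : L) (hx : π x * k = k * π x) :
    x * lf π a k = lf π a k * x := by
  have h1 := lf_conj hs hcom hk x
  rw [hx, mul_inv_cancel_right] at h1
  rw [eq_mul_inv_iff_mul_eq] at h1
  exact h1.symm

/-- Change of the lift by a central element. -/
theorem lf_mul (hπ : Ext π) (hcom : ∀ g, π g * π a = π a * π g → g * a = a * g)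
    {z : L} (hz : π z = 1) {k : K} (hk : IsConj (π a) k) :
    lf π (a * z) k = lf π a k * z := by
  have haz : π (a * z) = π a := by rw [map_mul, hz, mul_one]
  have hcom' : ∀ g, π g * π (a * z) = π (a * z) * π g → g * (a * z) = (a * z) * g := by
    intro g hg
    rw [haz] at hg
    rw [← mul_assoc, hcom g hg, mul_assoc, mul_assoc, hπ.cen z hz g]
  obtain ⟨g, rfl⟩ := exists_of_isConj hπ.surj hk
  have h1 : π (g * a * g⁻¹) = π (g * (a * z) * g⁻¹) := by
    rw [map_mul, map_mul, map_mul, map_mul, haz]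
  rw [lf_eq hcom, h1, lf_eq hcom']
  calc g * (a * z) * g⁻¹ = g * a * (z * g⁻¹) := by group
    _ = g * a * (g⁻¹ * z) := by rw [hπ.cen z hz]
    _ = g * a * g⁻¹ * z := by group

end Cfsg.Agent.KFacts.MulY.ClassLift
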