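import Cfsg.Agent.KFacts.MulY.GoodTrans
import Cfsg.Agent.KFacts.MulY.ClassLift
import Cfsg.Agent.KFacts.MulDef

/-!
# The 2-part of the Schur multiplier of `Co1` (helper249)

`card_le_two`: a perfect central extension `π : L → Co1` whose kernel is a 2-group has a kernel of order at most 2.
Hypotheses: the centralizer of an involution of type 2A of `Co1` is perfect, `M24` has no perfect double cover.
-/

set_option autoImplicit false
open Cfsg

namespace Cfsg.Agent.KFacts.MulY.CoOne

open Subgroup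
open Cfsg.Agent.SporadicA.GolayBase
open Cfsg.Agent.SporadicA.Co0Mono
open Cfsg.Agent.SporadicA.Co1Simple
open Cfsg.Agent.CoOneType.SignFacts
open Cfsg.Agent.CoOneType.CoOneE
open Cfsg.Agent.KFacts.MulY.OctadGen
open Cfsg.Agent.KFacts.MulY.GoodTrans
open Cfsg.Agent.KFacts.MulY.ClassLift
open Cfsg.Agent.KFacts.MulDef
open scoped commutatorElement

/-- Sign changes in `Co1`. -/
def A (c : golayCode) : Spor.Co1 := pr (signCo0 c)

theorem A_add (c d : golayCode) : A (c + d) = A c * A d := by
  unfold A; rw [signCo0_add, map_mul]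

theorem A_sq (c : golayCode) : A c * A c = 1 := by
  unfold A; rw [← map_mul, signCo0_mul_self, map_one]

theorem A_comm (c d : golayCode) : A c * A d = A d * A c := by
  rw [← A_add, add_comm, A_add]

theorem perm_A (σ : M24) (c : golayCode) :
    pr (permCo0 σ) * A c * (pr (permCo0 σ))⁻¹ = A (wordPerm σ c) := by
  unfold A
  rw [← map_inv, ← map_mul, ← map_mul, perm_mul_sign_mul_inv]

/-- Lifts of the sign changes on octads. -/
structure Hat {L : Type*} [Group L] (π : L →* Spor.Co1) (t : golayCode → L) : Prop where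
  map : ∀ c, wt c = 8 → π (t c) = A c
  conj : ∀ (x : L) (c d : golayCode), wt c = 8 → wt d = 8 → π x * A c * (π x)⁻¹ = A d → x * t c * x⁻¹ = t d

/-- Linear lifts. -/
structure Lin {L : Type*} [Group L] (π : L →* Spor.Co1) (t : golayCode → L) : Prop extends Hat π t where
  add : ∀ c d, Good c d → t c * t d = t (c + d)

variable {L : Type*} [Group L] {π : L →* Spor.Co1} {t : golayCode → L}

theorem Hat.commute (H : Hat π t) {c d : golayCode} (hc : wt c = 8) (hd : wt d = 8) : t c * t d = t d * t c := by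
  have h1 := H.conj (t d) c c hc hc (by rw [H.map d hd, A_comm, mul_inv_cancel_right])
  rw [mul_inv_eq_iff_eq_mul] at h1
  exact h1.symm

theorem Hat.perm (H : Hat π t) {σ : M24} {x : L} (hx : π x = pr (permCo0 σ)) {c : golayCode} (hc : wt c = 8) :
    x * t c * x⁻¹ = t (wordPerm σ c) :=
  H.conj x c _ hc (by rw [wt_wordPerm]; exact hc) (by rw [hx]; exact perm_A σ c)

/-- The defect of additivity. -/
def eta (t : golayCode → L) (c d : golayCode) : L := t c * t d * (t (c + d))⁻¹

theorem Hat.map_eta (H : Hat π t) {c d : golayCode} (h : Good c d) : π (eta t c d) = 1 := by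
  unfold eta
  rw [map_mul, map_mul, map_inv, H.map _ h.left, H.map _ h.right, H.map _ h.add, A_add, mul_inv_cancel]

theorem Hat.eta_eq (hπ : Ext π) (H : Hat π t) {c d c' d' : golayCode} (h : Good c d) (h' : Good c' d') :
    eta t c d = eta t c' d' := by
  obtain ⟨σ, rfl, rfl⟩ := exists_perm h h'
  obtain ⟨x, hx⟩ := hπ.surj (pr (permCo0 σ))
  have hz := hπ.cen _ (H.map_eta h) x
  calc eta t c d = eta t c d * x * x⁻¹ := by rw [mul_inv_cancel_right]
    _ = x * eta t c d * x⁻¹ := by rw [hz]
    _ = (x * t c * x⁻¹) * (x * t d * x⁻¹) * (x * t (c + d) * x⁻¹)⁻¹ := by unfold eta; group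
    _ = _ := by rw [H.perm hx h.left, H.perm hx h.right, H.perm hx h.add]; rfl

/-- The lifts can be chosen linear. -/
theorem Hat.exists_lin (hπ : Ext π) (H : Hat π t) : ∃ h : golayCode → L, Lin π h := by
  set e := eta t (cw 1) (cw 2) with he
  have hm : π e = 1 := H.map_eta good_base
  have hz : ∀ x, e * x = x * e := hπ.cen e hm
  have hzi : ∀ x, e⁻¹ * x = x * e⁻¹ := fun x => by
    rw [inv_mul_eq_iff_eq_mul, ← mul_assoc, hz, mul_inv_cancel_right]
  refine ⟨fun c => t c * e⁻¹, ⟨?_, ?_⟩, ?_⟩
  · intro c hc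
    rw [map_mul, map_inv, hm, H.map c hc, inv_one, mul_one]
  · intro x c d hc hd h
    show x * (t c * e⁻¹) * x⁻¹ = t d * e⁻¹
    rw [← H.conj x c d hc hd h]
    calc x * (t c * e⁻¹) * x⁻¹ = x * t c * (e⁻¹ * x⁻¹) := by group
      _ = x * t c * (x⁻¹ * e⁻¹) := by rw [hzi]
      _ = _ := by group
  · intro c d h
    show t c * e⁻¹ * (t d * e⁻¹) = t (c + d) * e⁻¹
    have h1 : e = t c * t d * (t (c + d))⁻¹ := H.eta_eq hπ good_base h
    have h2 : t c * t d = e * t (c + d) := by rw [h1]; group
    calc t c * e⁻¹ * (t d * e⁻¹) = t c * (e⁻¹ * t d) * e⁻¹ := by group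
      _ = t c * (t d * e⁻¹) * e⁻¹ := by rw [hzi]
      _ = (t c * t d) * e⁻¹ * e⁻¹ := by group
      _ = (e * t (c + d)) * e⁻¹ * e⁻¹ := by rw [h2]
      _ = (t (c + d) * e) * e⁻¹ * e⁻¹ := by rw [hz]
      _ = _ := by group

theorem Hat.sq_eq (hπ : Ext π) (H : Hat π t) {c d : golayCode} (hc : wt c = 8) (hd : wt d = 8) :
    t c * t c = t d * t d := by
  obtain ⟨σ, hσ⟩ := Cfsg.Agent.S0367.result _ _ ((sup_mem_octads c).2 hc) ((sup_mem_octads d).2 hd)
  rw [← sup_wordPerm] at hσ
  have hσ' := sup_inj hσ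
  subst hσ'
  obtain ⟨x, hx⟩ := hπ.surj (pr (permCo0 σ))
  have hz := hπ.cen (t c * t c) (by rw [map_mul, H.map c hc, A_sq]) x
  calc t c * t c = t c * t c * x * x⁻¹ := by rw [mul_inv_cancel_right]
    _ = x * (t c * t c) * x⁻¹ := by rw [hz]
    _ = (x * t c * x⁻¹) * (x * t c * x⁻¹) := by group
    _ = _ := by rw [H.perm hx hc]

theorem Lin.sq (hπ : Ext π) (H : Lin π t) {c : golayCode} (hc : wt c = 8) : t c * t c = 1 := by
  have g := good_base
  have h1 := H.add _ _ g
  have h2 : t (cw 1 + cw 2) * t (cw 1 + cw 2) = (t (cw 1) * t (cw 1)) * (t (cw 2) * t (cw 2)) := by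
    rw [← h1]
    calc t (cw 1) * t (cw 2) * (t (cw 1) * t (cw 2)) = t (cw 1) * (t (cw 2) * t (cw 1)) * t (cw 2) := by group
      _ = t (cw 1) * (t (cw 1) * t (cw 2)) * t (cw 2) := by rw [H.commute g.left g.right]
      _ = _ := by group
  rw [H.sq_eq hπ g.add hc, H.sq_eq hπ g.left hc, H.sq_eq hπ g.right hc] at h2
  exact (left_eq_mul.1 h2)

/-- The group generated by the lifts. -/
def HH (t : golayCode → L) : Subgroup L := closure (t '' {c | wt c = 8})

theorem mem_HH {c : golayCode} (hc : wt c = 8) : t c ∈ HH t := subset_closure ⟨c, hc, rfl⟩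

theorem Lin.HH_le (H : Lin π t) : HH t ≤ closure ((fun k => t (cw (2 ^ k))) '' {k | k < 12}) := by
  unfold HH
  rw [closure_le]
  rintro _ ⟨c, hc, rfl⟩
  obtain ⟨i, hi, rfl⟩ := exists_cw c
  refine octad_induction (Q := fun i => t (cw i) ∈ closure ((fun k => t (cw (2 ^ k))) '' {k | k < 12}))
    (fun k hk => subset_closure ⟨k, hk, rfl⟩) ?_ i hi hc
  intro i j hQi hQj h
  show t (cw (i ^^^ j)) ∈ _
  rw [cw_xor, ← H.add _ _ h]
  exact mul_mem hQi hQj

/-- `n` commuting involutions generate a group of order at most `2 ^ n`. -/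
theorem card_closure_le [Finite L] (f : ℕ → L) : ∀ n : ℕ, (∀ i j, i < n → j < n → f i * f j = f j * f i) →
    (∀ i, i < n → f i * f i = 1) → Nat.card (closure (f '' {k | k < n})) ≤ 2 ^ n := by
  intro n
  induction n with
  | zero =>
    intro _ _
    have : f '' {k | k < 0} = ∅ := by simp
    rw [this, Subgroup.closure_empty, card_bot, pow_zero]
  | succ n ih =>
    intro hcomm hsq
    have ih' := ih (fun i j hi hj => hcomm i j (by omega) (by omega)) (fun i hi => hsq i (by omega))
    set K := closure (f '' {k | k < n}) with hK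
    have hcK : ∀ x ∈ K, f n * x = x * f n := by
      intro x hx
      have h1 : K ≤ centralizer {f n} := by
        rw [hK, closure_le]
        rintro _ ⟨k, hk, rfl⟩
        rw [SetLike.mem_coe, mem_centralizer_singleton_iff]
        have hk' : k < n := hk
        exact hcomm k n (by omega) (by omega)
      exact (mem_centralizer_singleton_iff.1 (h1 hx)).symm
    have hsn := hsq n (by omega)
    let K' : Subgroup L :=
      { carrier := {x | x ∈ K ∨ x * f n ∈ K}
        one_mem' := Or.inl (one_mem K)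
        mul_mem' := by
          rintro x y (hx | hx) (hy | hy)
          · left; exact mul_mem hx hy
          · right; rw [mul_assoc]; exact mul_mem hx hy
          · right
            have : x * y * f n = x * f n * y := by rw [mul_assoc, ← hcK y hy, mul_assoc]
            rw [this]; exact mul_mem hx hy
          · left
            have : x * y = (x * f n) * (y * f n) := by
              have h2 : y * f n = f n * y := by
                have h3 := hcK _ hy
                -- f n * (y * f n) = y * f n * f n = y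
                rw [mul_assoc, hsn, mul_one] at h3
                calc y * f n = (f n * (y * f n)) * f n := by rw [h3]
                  _ = f n * y * (f n * f n) := by group
                  _ = f n * y := by rw [hsn, mul_one]
              rw [h2]
              calc x * y = x * (f n * f n) * y := by rw [hsn, mul_one]
                _ = _ := by group
            rw [this]; exact mul_mem hx hy
        inv_mem' := by
          rintro x (hx | hx)
          · left; exact inv_mem hx
          · right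
            have h3 := hcK _ hx
            rw [mul_assoc, hsn, mul_one] at h3
            -- h3 : f n * (x * f n) = x
            have h4 : x⁻¹ * f n = (x * f n)⁻¹ := by
              have h5 : x * f n = f n * x := by
                calc x * f n = (f n * (x * f n)) * f n := by rw [h3]
                  _ = f n * x * (f n * f n) := by group
                  _ = f n * x := by rw [hsn, mul_one]
              rw [h5, mul_inv_rev]
              congr 1
              exact (inv_eq_of_mul_eq_one_right hsn).symm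
            rw [h4]; exact inv_mem hx }
    have h1 : closure (f '' {k | k < n + 1}) ≤ K' := by
      rw [closure_le]
      rintro _ ⟨k, hk, rfl⟩
      have hk' : k < n + 1 := hk
      rcases Nat.lt_succ_iff_lt_or_eq.1 hk' with h | rfl
      · exact Or.inl (subset_closure ⟨k, h, rfl⟩)
      · right; rw [hsn]; exact one_mem K
    have h2 : Nat.card K' ≤ 2 * Nat.card K := by
      have h3 : (K' : Set L) ⊆ (K : Set L) ∪ (fun x => x * f n) '' (K : Set L) := by
        rintro x (hx | hx)
        · exact Or.inl hx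
        · refine Or.inr ⟨x * f n, hx, ?_⟩
          show x * f n * f n = x
          rw [mul_assoc, hsn, mul_one]
      have h4 := Set.ncard_le_ncard h3 (Set.toFinite _)
      have h5 := Set.ncard_union_le (K : Set L) ((fun x => x * f n) '' (K : Set L))
      have h6 : ((fun x => x * f n) '' (K : Set L)).ncard ≤ (K : Set L).ncard := Set.ncard_image_le (Set.toFinite _)
      have e1 : (K' : Set L).ncard = Nat.card K' := rfl
      have e2 : (K : Set L).ncard = Nat.card K := rfl
      omega
    calc Nat.card (closure (f '' {k | k < n + 1})) ≤ Nat.card K' := Subgroup.card_le_of_le h1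
      _ ≤ 2 * Nat.card K := h2
      _ ≤ 2 * 2 ^ n := Nat.mul_le_mul_left 2 ih'
      _ = 2 ^ (n + 1) := by rw [pow_succ]; ring

theorem Lin.card_HH [Finite L] (hπ : Ext π) (H : Lin π t) : Nat.card (HH t) ≤ 4096 := by
  have h1 := Subgroup.card_le_of_le H.HH_le
  have h2 := card_closure_le (fun k => t (cw (2 ^ k))) 12
    (fun i j hi hj => H.commute (wt_basis i hi) (wt_basis j hj)) (fun i hi => H.sq hπ (wt_basis i hi))
  exact le_trans h1 (le_trans h2 (by norm_num))

theorem Hat.E_le (H : Hat π t) : E ≤ (HH t).map π := by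
  rintro _ ⟨c, rfl⟩
  have key : ∀ c, wt c = 8 → A c ∈ (HH t).map π := fun c hc => ⟨t c, mem_HH hc, H.map c hc⟩
  rcases wt_cases c with h | h | h | h | h
  · rw [(pr_sign_eq_one_iff c).2 (Or.inl h)]; exact one_mem _
  · exact key c h
  · obtain ⟨a, b, ha, hb, rfl⟩ := exists_octads_add h
    show A (a + b) ∈ _
    rw [A_add]
    exact mul_mem (key a ha) (key b hb)
  · rw [← pr_sign_add_allOne]
    apply key
    have := wt_add_allOne c
    omega
  · rw [(pr_sign_eq_one_iff c).2 (Or.inr h)]; exact one_mem _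

theorem Hat.map_HH_le (H : Hat π t) : (HH t).map π ≤ E := by
  rw [map_le_iff_le_comap]
  unfold HH
  rw [closure_le]
  rintro _ ⟨c, hc, rfl⟩
  exact ⟨c, H.map c hc⟩

/-- The group of the lifts meets the kernel in a group of order at most 2. -/
theorem Lin.card_ker_le [Finite L] (hπ : Ext π) (H : Lin π t) (hle : π.ker ≤ HH t) : Nat.card π.ker ≤ 2 := by
  let f : HH t →* Spor.Co1 := π.comp (HH t).subtype
  have h1 : Nat.card f.ker * f.ker.index = Nat.card (HH t) := card_mul_index _
  rw [index_ker] at h1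
  have h2 : f.range = (HH t).map π := by
    rw [MonoidHom.range_eq_map, ← map_map, ← MonoidHom.range_eq_map, range_subtype]
  have h3 : 2048 ≤ Nat.card f.range := by
    rw [← card_E, h2]
    exact Subgroup.card_le_of_le H.E_le
  have h4 := H.card_HH hπ
  have h5 : Nat.card f.ker ≤ 2 := by
    by_contra hcon
    push Not at hcon
    have : 3 * 2048 ≤ Nat.card f.ker * Nat.card f.range := Nat.mul_le_mul hcon h3
    omega
  refine le_trans ?_ h5
  have h6 : Function.Injective (fun x : π.ker => (⟨⟨x, hle x.2⟩, x.2⟩ : f.ker)) := by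
    intro x y h
    apply Subtype.ext
    have := congrArg (fun z : f.ker => ((z : HH t) : L)) h
    exact this
  exact Nat.card_le_card_of_injective _ h6

/-! ### The complement over `M24` -/

theorem sigma_eq_one {c : golayCode} {σ : M24} (h : A c = pr (permCo0 σ)) : σ = 1 := by
  rcases (pr_eq_iff _ _).1 h with h1 | h1
  · apply perm_eq_one (d := c)
    rw [h1, signCo0_mul_self]
  · apply perm_eq_one (d := c + allOne)
    rw [h1, ← signCo0_add, signCo0_mul_self]

theorem inj : Function.Injective (pr.comp permCo0) := by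
  rw [injective_iff_map_eq_one]
  intro σ hσ
  apply sigma_eq_one (c := 0)
  have h1 : pr (permCo0 σ) = 1 := hσ
  rw [h1]
  unfold A
  rw [signCo0_zero, map_one]

/-- The image of `M24` in `Co1`. -/
def TT : Subgroup Spor.Co1 := (pr.comp permCo0).range

theorem mem_TT {x : Spor.Co1} : x ∈ TT ↔ ∃ σ : M24, pr (permCo0 σ) = x := Iff.rfl

theorem commutator_M24 : commutator M24 = ⊤ := by
  rcases Cfsg.Agent.S0365.result.eq_bot_or_eq_top_of_normal (commutator M24) inferInstance with
    h | h
  · exfalso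
    have hcomm : ∀ a b : M24, a * b = b * a := by
      intro a b
      have h1 : ⁅a, b⁆ ∈ commutator M24 :=
        Subgroup.commutator_mem_commutator (Subgroup.mem_top a) (Subgroup.mem_top b)
      rw [h, Subgroup.mem_bot, commutatorElement_eq_one_iff_mul_comm] at h1
      exact h1
    let _ : CommGroup M24 := { (inferInstance : Group M24) with mul_comm := hcomm }
    have : IsSimpleGroup M24 := Cfsg.Agent.S0365.result
    have h2 : (Nat.card M24).Prime := IsSimpleGroup.prime_card
    rw [Cfsg.Agent.S0364.result] at h2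
    exact absurd h2 (by norm_num)
  · exact h

theorem commutator_TT : ⁅TT, TT⁆ = TT := by
  unfold TT
  rw [MonoidHom.range_eq_map, ← map_commutator, ← commutator_def, commutator_M24]

theorem comm_eq (hπ : Ext π) {x y x' y' : L} (hx : π x = π x') (hy : π y = π y') : ⁅x, y⁆ = ⁅x', y'⁆ := by
  have hz := hπ.cen (x * x'⁻¹) (by rw [map_mul, map_inv, hx, mul_inv_cancel])
  have hw := hπ.cen (y * y'⁻¹) (by rw [map_mul, map_inv, hy, mul_inv_cancel])
  set z := x * x'⁻¹ with hzz
  set w := y * y'⁻¹ with hww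
  have ex : x = z * x' := by rw [hzz]; group
  have ey : y = w * y' := by rw [hww]; group
  rw [ex, ey, commutatorElement_def, commutatorElement_def]
  calc z * x' * (w * y') * (z * x')⁻¹ * (w * y')⁻¹
      = z * ((x' * w) * y' * x'⁻¹ * z⁻¹) * (y'⁻¹ * w⁻¹) := by group
    _ = z * ((w * x') * y' * x'⁻¹ * z⁻¹) * (y'⁻¹ * w⁻¹) := by rw [hw x']
    _ = (z * (w * x' * y' * x'⁻¹)) * z⁻¹ * (y'⁻¹ * w⁻¹) := by group
    _ = ((w * x' * y' * x'⁻¹) * z) * z⁻¹ * (y'⁻¹ * w⁻¹) := by rw [hz]
    _ = w * (x' * y' * x'⁻¹ * y'⁻¹) * w⁻¹ := by group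
    _ = (x' * y' * x'⁻¹ * y'⁻¹) * w * w⁻¹ := by rw [hw]
    _ = _ := by group

/-- The preimage of `M24`. -/
def UU (π : L →* Spor.Co1) : Subgroup L := TT.comap π

/-- Its commutator subgroup. -/
def TL (π : L →* Spor.Co1) : Subgroup L := ⁅UU π, UU π⁆

theorem map_TL (hπ : Ext π) : (TL π).map π = TT := by
  unfold TL UU
  rw [map_commutator, map_comap_eq_self_of_surjective hπ.surj, commutator_TT]

theorem TL_le : TL π ≤ UU π := by
  unfold TL
  rw [commutator_le]
  intro a ha b hb
  exact mul_mem (mul_mem (mul_mem ha hb) (inv_mem ha)) (inv_mem hb)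

theorem TL_perfect (hπ : Ext π) : TL π ≤ ⁅TL π, TL π⁆ := by
  have key : ∀ x ∈ UU π, ∃ s ∈ TL π, π x = π s := by
    intro x hx
    have h1 : π x ∈ (TL π).map π := by rw [map_TL hπ]; exact hx
    obtain ⟨s, hs, hs'⟩ := h1
    exact ⟨s, hs, hs'.symm⟩
  conv_lhs => unfold TL
  rw [commutator_le]
  intro x hx y hy
  obtain ⟨s, hs, hs'⟩ := key x hx
  obtain ⟨r, hr, hr'⟩ := key y hy
  rw [comm_eq hπ hs' hr']
  exact commutator_mem_commutator hs hr

theorem TL_ker [Finite L] (hπ : Ext π) (h2 : IsPGroup 2 π.ker) (h24 : NoDouble M24) {x : L} (hx : x ∈ TL π)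
    (h1 : π x = 1) : x = 1 := by
  let f : TL π →* TT := (π.comp (TL π).subtype).codRestrict TT (fun y => TL_le (π := π) y.2)
  have hf : Function.Surjective f := by
    rintro ⟨y, hy⟩
    have h3 : y ∈ (TL π).map π := by rw [map_TL hπ]; exact hy
    obtain ⟨s, hs, hs'⟩ := h3
    exact ⟨⟨s, hs⟩, Subtype.ext hs'⟩
  have hperf : commutator (TL π) = ⊤ := by
    apply map_injective (TL π).subtype_injective
    rw [Subgroup.map_subtype_commutator, ← MonoidHom.range_eq_map, range_subtype]
    apply le_antisymm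
    · rw [commutator_le]
      intro a ha b hb
      exact mul_mem (mul_mem (mul_mem ha hb) (inv_mem ha)) (inv_mem hb)
    · exact TL_perfect hπ
  have hker : ∀ y : TL π, y ∈ f.ker → π y = 1 := fun y hy => congrArg Subtype.val hy
  have hcen : f.ker ≤ center (TL π) := by
    intro y hy
    rw [Subgroup.mem_center_iff]
    intro g
    apply Subtype.ext
    exact (hπ.cen y (hker y hy) g).symm
  have hN : NoDouble TT := h24.congr (MonoidHom.ofInjective inj)
  have hodd := hN.odd_card hperf hf hcen
  have hy : (⟨x, hx⟩ : TL π) ∈ f.ker := Subtype.ext h1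
  have h4 : orderOf x ∣ Nat.card f.ker := by
    have h5 := orderOf_dvd_natCard (⟨⟨x, hx⟩, hy⟩ : f.ker)
    rwa [orderOf_mk, orderOf_mk] at h5
  have hxk : x ∈ π.ker := h1
  obtain ⟨k, hk⟩ := (IsPGroup.iff_orderOf.1 h2) ⟨x, hxk⟩
  rw [orderOf_mk] at hk
  rcases Nat.eq_zero_or_pos k with rfl | hpos
  · rw [pow_zero, orderOf_eq_one_iff] at hk; exact hk
  · exfalso
    rw [hk] at h4
    have h6 : 2 ∣ Nat.card f.ker := dvd_trans (dvd_pow_self 2 hpos.ne') h4
    exact (Nat.not_even_iff_odd.2 hodd) (even_iff_two_dvd.2 h6)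

theorem Hat.normal (H : Hat π t) {x h : L} (hx : x ∈ UU π) (hh : h ∈ HH t) : x * h * x⁻¹ ∈ HH t := by
  obtain ⟨σ, hσ⟩ := mem_TT.1 (show π x ∈ TT from hx)
  have h1 : HH t ≤ (HH t).comap (MulAut.conj x).toMonoidHom := by
    conv_lhs => unfold HH
    rw [closure_le]
    rintro _ ⟨c, hc, rfl⟩
    show x * t c * x⁻¹ ∈ HH t
    rw [H.perm hσ.symm hc]
    exact mem_HH (by rw [wt_wordPerm]; exact hc)
  exact h1 hh

/-- The product of the two groups. -/
def MM (H : Hat π t) : Subgroup L where
  carrier := {x | ∃ h ∈ HH t, ∃ s ∈ TL π, x = h * s}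
  one_mem' := ⟨1, one_mem _, 1, one_mem _, by rw [mul_one]⟩
  mul_mem' := by
    rintro _ _ ⟨h, hh, s, hs, rfl⟩ ⟨h', hh', s', hs', rfl⟩
    exact ⟨h * (s * h' * s⁻¹), mul_mem hh (H.normal (TL_le hs) hh'), s * s', mul_mem hs hs', by group⟩
  inv_mem' := by
    rintro _ ⟨h, hh, s, hs, rfl⟩
    refine ⟨s⁻¹ * h⁻¹ * s⁻¹⁻¹, H.normal (inv_mem (TL_le hs)) (inv_mem hh), s⁻¹, inv_mem hs, by group⟩

/-- The preimage of the monomial group. -/
def PP (π : L →* Spor.Co1) : Subgroup L := (N.map pr).comap π

theorem index_N : N.index = 8292375 := by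
  have h1 := N.card_mul_index
  rw [Cfsg.Agent.S0399.card_N, Cfsg.Agent.S0397.result] at h1
  omega

theorem index_PP (hπ : Ext π) : (PP π).index = 8292375 := by
  unfold PP
  rw [index_comap_of_surjective _ hπ.surj, Subgroup.index_map_eq _ pr_surjective, index_N]
  intro g hg
  have hg' : g ∈ center Co0 := by
    have : g ∈ (QuotientGroup.mk' (center Co0)).ker := hg
    rwa [QuotientGroup.ker_mk'] at this
  rcases (mem_center_iff g).1 hg' with rfl | rfl
  · exact one_mem _
  · exact sign_mem_N _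

theorem Hat.comm_le (hπ : Ext π) (H : Hat π t) : ⁅PP π, PP π⁆ ≤ MM H := by
  have key : ∀ x ∈ PP π, ∃ m ∈ MM H, π x = π m := by
    intro x hx
    obtain ⟨g, hg, hgx⟩ := (show π x ∈ N.map pr from hx)
    obtain ⟨a, σ, rfl⟩ := exists_sign_perm hg
    obtain ⟨h, hh, hh'⟩ := H.E_le (show A a ∈ E from ⟨a, rfl⟩)
    have h1 : pr (permCo0 σ) ∈ (TL π).map π := by rw [map_TL hπ]; exact ⟨σ, rfl⟩
    obtain ⟨s, hs, hs'⟩ := h1
    refine ⟨h * s, ⟨h, hh, s, hs, rfl⟩, ?_⟩
    rw [← hgx, map_mul, map_mul, hh', hs']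
    rfl
  rw [commutator_le]
  intro x hx y hy
  obtain ⟨m, hm, hm'⟩ := key x hx
  obtain ⟨n, hn, hn'⟩ := key y hy
  rw [comm_eq hπ hm' hn']
  exact mul_mem (mul_mem (mul_mem hm hn) (inv_mem hm)) (inv_mem hn)

/-- The kernel lies in the group of the lifts. -/
theorem Hat.ker_le [Finite L] (hperf : commutator L = ⊤) (hπ : Ext π) (h2 : IsPGroup 2 π.ker)
    (h24 : NoDouble M24) (H : Hat π t) : π.ker ≤ HH t := by
  intro z hz
  have hz1 : π z = 1 := hz
  have hcen := hπ.cen z hz1
  have h1 : ∀ (k : ℕ) (g₀ : L), g₀⁻¹ * z ^ k * g₀ ∈ PP π → g₀⁻¹ * z ^ k * g₀ = z ^ k := by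
    intro k g₀ _
    have h2 : Commute z g₀ := hcen g₀
    rw [mul_assoc, (h2.pow_left k).eq]; group
  have h3 := MonoidHom.transfer_eq_pow (Abelianization.of (G := PP π)) z h1
  have h4 : MonoidHom.transfer (Abelianization.of (G := PP π)) z = 1 := by
    have h5 : (MonoidHom.transfer (Abelianization.of (G := PP π))).ker = ⊤ := by
      rw [eq_top_iff, ← hperf]
      exact Abelianization.commutator_subset_ker _
    have : z ∈ (MonoidHom.transfer (Abelianization.of (G := PP π))).ker := by rw [h5]; exact mem_top _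
    exact this
  rw [h4] at h3
  have h5 : (⟨z ^ (PP π).index, MonoidHom.transfer_eq_pow_aux z h1⟩ : PP π) ∈ commutator (PP π) := by
    rw [← Abelianization.ker_of]
    exact h3.symm
  have h6 : z ^ (PP π).index ∈ MM H := by
    apply H.comm_le hπ
    rw [← Subgroup.map_subtype_commutator]
    exact ⟨_, h5, rfl⟩
  have h7 : ((PP π).index).Coprime (orderOf z) := by
    obtain ⟨k, hk⟩ := (IsPGroup.iff_orderOf.1 h2) ⟨z, hz⟩
    rw [orderOf_mk] at hk
    rw [hk, index_PP hπ]
    exact Nat.Coprime.pow_right k (by norm_num)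
  obtain ⟨m, hm⟩ := exists_pow_eq_self_of_coprime h7
  have h8 : z ∈ MM H := by
    rw [← hm]
    exact pow_mem h6 m
  obtain ⟨h, hh, s, hs, rfl⟩ := h8
  rw [map_mul] at hz1
  obtain ⟨c, hc⟩ := H.map_HH_le (mem_map_of_mem π hh)
  obtain ⟨σ, hσ⟩ := mem_TT.1 (show π s ∈ TT from TL_le hs)
  have h9 : σ⁻¹ = 1 := by
    apply sigma_eq_one (c := c)
    rw [map_inv, map_inv, hσ]
    show pr (signCo0 c) = _
    rw [← hc]
    exact eq_inv_of_mul_eq_one_left hz1
  have h10 : σ = 1 := inv_eq_one.1 h9
  have h11 : s = 1 := by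
    apply TL_ker hπ h2 h24 hs
    rw [← hσ, h10, map_one, map_one]
  rw [h11, mul_one]
  exact hh

/-- **The 2-part of the multiplier of `Co1`** -/
theorem card_le_two [Finite L] (hperf : commutator L = ⊤) (hs : Function.Surjective π) (hc : π.ker ≤ center L)
    (h2 : IsPGroup 2 π.ker) {o : golayCode} (ho : wt o = 8)
    (hC : centralizer ({pr (signCo0 o)} : Set Spor.Co1) ≤
      ⁅centralizer ({pr (signCo0 o)} : Set Spor.Co1), centralizer ({pr (signCo0 o)} : Set Spor.Co1)⁆)
    (h24 : NoDouble M24) : Nat.card π.ker ≤ 2 := by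
  have hπ : Ext π := ⟨hs, fun z hz x => (Subgroup.mem_center_iff.1 (hc hz) x).symm⟩
  obtain ⟨a, ha⟩ := hs (pr (signCo0 o))
  have hcom : ∀ g, π g * π a = π a * π g → g * a = a * g := by
    intro g hg
    exact commute_of_perfect hπ a (by rw [ha]; exact hC) hg
  have hcj : ∀ c, wt c = 8 → IsConj (π a) (A c) := by
    intro c hc
    rw [ha]
    exact isConj_of_wt o c (Or.inl ⟨ho, hc⟩)
  have H : Hat π (fun c => lf π a (A c)) := by
    refine ⟨fun c hc => map_lf hs hcom (hcj c hc), fun x c d hc hd h => ?_⟩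
    show x * lf π a (A c) * x⁻¹ = lf π a (A d)
    rw [← lf_conj hs hcom (hcj c hc), h]
  obtain ⟨h, hlin⟩ := H.exists_lin hπ
  exact hlin.card_ker_le hπ (hlin.ker_le hperf hπ h2 h24)

end Cfsg.Agent.KFacts.MulY.CoOne
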