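import Mathlib

/-!
# Uniqueness of the largest perfect central 2-extension (helper249)

`exists_equiv`: if every perfect central extension of `X` by a 2-group (inside `L₁ × L₂`) has a kernel of order at most
`n`, then two perfect central extensions `L₁`, `L₂` of `X` with kernels of order `n` are isomorphic over `X`.
-/

set_option autoImplicit false

namespace Cfsg.Agent.KFacts.MulY.UniqueCover

open Subgroup
open scoped commutatorElement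

/-- Commutators in a central extension. -/
theorem comm_eq {L X : Type*} [Group L] [Group X] {π : L →* X} (hc : π.ker ≤ center L) {x y x' y' : L}
    (hx : π x = π x') (hy : π y = π y') : ⁅x, y⁆ = ⁅x', y'⁆ := by
  have hcen : ∀ z : L, π z = 1 → ∀ x : L, z * x = x * z := fun z hz x => (mem_center_iff.1 (hc hz) x).symm
  have hz := hcen (x * x'⁻¹) (by rw [map_mul, map_inv, hx, mul_inv_cancel])
  have hw := hcen (y * y'⁻¹) (by rw [map_mul, map_inv, hy, mul_inv_cancel])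
  set z := x * x'⁻¹ with hzz
  set w := y * y'⁻¹ with hww
  have ex : x = z * x' := by rw [hzz]; group
  have ey : y = w * y' := by rw [hww]; group
  rw [ex, ey, commutatorElement_def, commutatorElement_def]
  calc z * x' * (w * y') * (z * x')⁻¹ * (w * y')⁻¹
      = z * ((x' * w) * y' * x'⁻¹ * z⁻¹) * (y'⁻¹ * w⁻¹) := by group
    _ = z * ((w * x') * y' * x'⁻¹ * z⁻¹) * (y'⁻¹ * w⁻¹) := by rw [hw x']
    _ = (z * (w * x' * y' * x'⁻¹)) * z⁻¹ * (y'⁻¹ * w⁻¹) := by group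
    _ = ((w * x' * y' * x'⁻¹) * z) * z⁻¹ * (y'⁻¹ * w⁻¹) := by rw [hz]
    _ = w * (x' * y' * x'⁻¹ * y'⁻¹) * w⁻¹ := by group
    _ = (x' * y' * x'⁻¹ * y'⁻¹) * w * w⁻¹ := by rw [hw]
    _ = _ := by group

/-- A perfect central extension of `X` by a 2-group. -/
structure Cov {L X : Type*} [Group L] [Group X] (π : L →* X) : Prop where
  surj : Function.Surjective π
  cen : π.ker ≤ center L
  two : IsPGroup 2 π.ker
  perf : commutator L = ⊤

variable {X L₁ L₂ : Type*} [Group X] [Group L₁] [Group L₂] {π₁ : L₁ →* X} {π₂ : L₂ →* X}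

/-- The fibre product. -/
def FF (π₁ : L₁ →* X) (π₂ : L₂ →* X) : Subgroup (L₁ × L₂) where
  carrier := {x | π₁ x.1 = π₂ x.2}
  one_mem' := by show π₁ 1 = π₂ 1; rw [map_one, map_one]
  mul_mem' := by
    intro x y hx hy
    show π₁ (x.1 * y.1) = π₂ (x.2 * y.2)
    rw [map_mul, map_mul, show π₁ x.1 = π₂ x.2 from hx, show π₁ y.1 = π₂ y.2 from hy]
  inv_mem' := by
    intro x hx
    show π₁ x.1⁻¹ = π₂ x.2⁻¹
    rw [map_inv, map_inv, show π₁ x.1 = π₂ x.2 from hx]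

theorem DD_le : ⁅FF π₁ π₂, FF π₁ π₂⁆ ≤ FF π₁ π₂ := by
  rw [commutator_le]
  intro a ha b hb
  exact mul_mem (mul_mem (mul_mem ha hb) (inv_mem ha)) (inv_mem hb)

theorem fst_surj (h₂ : Function.Surjective π₂) (p₁ : commutator L₁ = ⊤) :
    ∀ x : L₁, ∃ d ∈ ⁅FF π₁ π₂, FF π₁ π₂⁆, d.1 = x := by
  intro x
  have h1 : (FF π₁ π₂).map (MonoidHom.fst L₁ L₂) = ⊤ := by
    rw [eq_top_iff]
    intro x _
    obtain ⟨y, hy⟩ := h₂ (π₁ x)
    exact ⟨(x, y), hy.symm, rfl⟩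
  have h2 : (⁅FF π₁ π₂, FF π₁ π₂⁆).map (MonoidHom.fst L₁ L₂) = ⊤ := by
    rw [map_commutator, h1, ← commutator_def, p₁]
  have h3 : x ∈ (⁅FF π₁ π₂, FF π₁ π₂⁆).map (MonoidHom.fst L₁ L₂) := by rw [h2]; exact mem_top _
  obtain ⟨d, hd, hd'⟩ := h3
  exact ⟨d, hd, hd'⟩

theorem snd_surj (h₁ : Function.Surjective π₁) (p₂ : commutator L₂ = ⊤) :
    ∀ x : L₂, ∃ d ∈ ⁅FF π₁ π₂, FF π₁ π₂⁆, d.2 = x := by
  intro x
  have h1 : (FF π₁ π₂).map (MonoidHom.snd L₁ L₂) = ⊤ := by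
    rw [eq_top_iff]
    intro x _
    obtain ⟨y, hy⟩ := h₁ (π₂ x)
    exact ⟨(y, x), hy, rfl⟩
  have h2 : (⁅FF π₁ π₂, FF π₁ π₂⁆).map (MonoidHom.snd L₁ L₂) = ⊤ := by
    rw [map_commutator, h1, ← commutator_def, p₂]
  have h3 : x ∈ (⁅FF π₁ π₂, FF π₁ π₂⁆).map (MonoidHom.snd L₁ L₂) := by rw [h2]; exact mem_top _
  obtain ⟨d, hd, hd'⟩ := h3
  exact ⟨d, hd, hd'⟩

/-- The projection of the perfect part of the fibre product. -/
def rho (π₁ : L₁ →* X) (π₂ : L₂ →* X) : ↥(⁅FF π₁ π₂, FF π₁ π₂⁆) →* X :=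
  (π₁.comp (MonoidHom.fst L₁ L₂)).comp (⁅FF π₁ π₂, FF π₁ π₂⁆).subtype

theorem rho_apply (d : ↥(⁅FF π₁ π₂, FF π₁ π₂⁆)) : rho π₁ π₂ d = π₁ d.1.1 := rfl

theorem rho_apply' (d : ↥(⁅FF π₁ π₂, FF π₁ π₂⁆)) : rho π₁ π₂ d = π₂ d.1.2 := DD_le d.2

theorem cov_rho (h₁ : Cov π₁) (h₂ : Cov π₂) : Cov (rho π₁ π₂) := by
  refine ⟨?_, ?_, ?_, ?_⟩
  · intro x
    obtain ⟨y, rfl⟩ := h₁.surj x
    obtain ⟨d, hd, rfl⟩ := fst_surj (π₁ := π₁) h₂.surj h₁.perf y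
    exact ⟨⟨d, hd⟩, rfl⟩
  · intro d hd
    have hd1 : π₁ d.1.1 = 1 := hd
    have hd2 : π₂ d.1.2 = 1 := by rw [← rho_apply']; exact hd
    rw [mem_center_iff]
    intro g
    apply Subtype.ext
    exact Prod.ext (mem_center_iff.1 (h₁.cen hd1) g.1.1) (mem_center_iff.1 (h₂.cen hd2) g.1.2)
  · rintro ⟨d, hd⟩
    have hd1 : d.1.1 ∈ π₁.ker := hd
    have hd2 : d.1.2 ∈ π₂.ker := by
      show π₂ d.1.2 = 1
      rw [← rho_apply']; exact hd
    obtain ⟨a, ha⟩ := h₁.two ⟨d.1.1, hd1⟩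
    obtain ⟨b, hb⟩ := h₂.two ⟨d.1.2, hd2⟩
    have ha' : d.1.1 ^ 2 ^ a = 1 := congrArg Subtype.val ha
    have hb' : d.1.2 ^ 2 ^ b = 1 := congrArg Subtype.val hb
    refine ⟨a + b, ?_⟩
    apply Subtype.ext
    apply Subtype.ext
    refine Prod.ext ?_ ?_
    · show d.1.1 ^ 2 ^ (a + b) = 1
      rw [pow_add, pow_mul, ha', one_pow]
    · show d.1.2 ^ 2 ^ (a + b) = 1
      rw [pow_add, mul_comm, pow_mul, hb', one_pow]
  · apply map_injective (⁅FF π₁ π₂, FF π₁ π₂⁆).subtype_injective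
    rw [Subgroup.map_subtype_commutator, ← MonoidHom.range_eq_map, range_subtype]
    set D := ⁅FF π₁ π₂, FF π₁ π₂⁆ with hD
    apply le_antisymm
    · rw [commutator_le]
      intro a ha b hb
      exact mul_mem (mul_mem (mul_mem ha hb) (inv_mem ha)) (inv_mem hb)
    · have key : ∀ x ∈ FF π₁ π₂, ∃ d ∈ D, π₁ x.1 = π₁ d.1 ∧ π₂ x.2 = π₂ d.2 := by
        intro x hx
        obtain ⟨d, hd, hdx⟩ := fst_surj (π₁ := π₁) h₂.surj h₁.perf x.1
        refine ⟨d, hd, by rw [hdx], ?_⟩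
        have h3 : π₁ d.1 = π₂ d.2 := DD_le hd
        rw [← h3, hdx]
        exact hx.symm
      conv_lhs => rw [hD]
      rw [commutator_le]
      intro x hx y hy
      obtain ⟨d, hd, hd1, hd2⟩ := key x hx
      obtain ⟨e, he, he1, he2⟩ := key y hy
      have h1 : ⁅x, y⁆ = ⁅d, e⁆ :=
        Prod.ext (comm_eq h₁.cen hd1 he1) (comm_eq h₂.cen hd2 he2)
      rw [h1]
      exact commutator_mem_commutator hd he

/-- Two perfect central extensions of `X` by 2-groups of the maximal order `n` are isomorphic over `X`. -/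
theorem exists_equiv [Finite L₁] [Finite L₂] (h₁ : Cov π₁) (h₂ : Cov π₂) {n : ℕ} (hn₁ : Nat.card π₁.ker = n)
    (hn₂ : Nat.card π₂.ker = n) (hmax : Cov (rho π₁ π₂) → Nat.card (rho π₁ π₂).ker ≤ n) :
    ∃ e : L₁ ≃* L₂, ∀ x, π₂ (e x) = π₁ x := by
  have hc := hmax (cov_rho h₁ h₂)
  have hD : Nat.card (rho π₁ π₂).ker * Nat.card X = Nat.card ↥(⁅FF π₁ π₂, FF π₁ π₂⁆) := by
    have h := (rho π₁ π₂).ker.card_mul_index
    rw [index_ker, MonoidHom.range_eq_top.2 (cov_rho h₁ h₂).surj, card_top] at h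
    exact h
  have hL₁ : Nat.card π₁.ker * Nat.card X = Nat.card L₁ := by
    have h := π₁.ker.card_mul_index
    rw [index_ker, MonoidHom.range_eq_top.2 h₁.surj, card_top] at h
    exact h
  have hL₂ : Nat.card π₂.ker * Nat.card X = Nat.card L₂ := by
    have h := π₂.ker.card_mul_index
    rw [index_ker, MonoidHom.range_eq_top.2 h₂.surj, card_top] at h
    exact h
  have hle : Nat.card ↥(⁅FF π₁ π₂, FF π₁ π₂⁆) ≤ n * Nat.card X := by
    rw [← hD]; exact Nat.mul_le_mul_right _ hc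
  let f₁ : ↥(⁅FF π₁ π₂, FF π₁ π₂⁆) →* L₁ := (MonoidHom.fst L₁ L₂).comp (⁅FF π₁ π₂, FF π₁ π₂⁆).subtype
  let f₂ : ↥(⁅FF π₁ π₂, FF π₁ π₂⁆) →* L₂ := (MonoidHom.snd L₁ L₂).comp (⁅FF π₁ π₂, FF π₁ π₂⁆).subtype
  have s₁ : Function.Surjective f₁ := by
    intro x
    obtain ⟨d, hd, rfl⟩ := fst_surj (π₁ := π₁) h₂.surj h₁.perf x
    exact ⟨⟨d, hd⟩, rfl⟩
  have s₂ : Function.Surjective f₂ := by
    intro x
    obtain ⟨d, hd, rfl⟩ := snd_surj (π₂ := π₂) h₁.surj h₂.perf x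
    exact ⟨⟨d, hd⟩, rfl⟩
  have e₁ : Nat.card ↥(⁅FF π₁ π₂, FF π₁ π₂⁆) = Nat.card L₁ := by
    apply le_antisymm
    · rw [← hL₁, hn₁]; exact hle
    · exact Nat.card_le_card_of_surjective _ s₁
  have e₂ : Nat.card ↥(⁅FF π₁ π₂, FF π₁ π₂⁆) = Nat.card L₂ := by
    apply le_antisymm
    · rw [← hL₂, hn₂]; exact hle
    · exact Nat.card_le_card_of_surjective _ s₂
  have b₁ : Function.Bijective f₁ := (Nat.bijective_iff_surjective_and_card f₁).2 ⟨s₁, e₁⟩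
  have b₂ : Function.Bijective f₂ := (Nat.bijective_iff_surjective_and_card f₂).2 ⟨s₂, e₂⟩
  let g₁ := MulEquiv.ofBijective f₁ b₁
  let g₂ := MulEquiv.ofBijective f₂ b₂
  refine ⟨g₁.symm.trans g₂, fun x => ?_⟩
  obtain ⟨d, rfl⟩ := g₁.surjective x
  show π₂ (g₂ (g₁.symm (g₁ d))) = π₁ (g₁ d)
  rw [MulEquiv.symm_apply_apply]
  exact (rho_apply' d).symm

end Cfsg.Agent.KFacts.MulY.UniqueCover
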