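import Cfsg.Agent.KFacts.MulY.CoOne
import Cfsg.Agent.KFacts.MulY.UniqueCover
import Cfsg.Agent.S0372

/-!
# The perfect central 2-extensions of `Co1`: `Co1` and `Co0` (helper249)

`exists_equiv_Co0`: a perfect central extension of `Co1` by a group of order 2 is isomorphic to `Co0` over `Co1`.
-/

set_option autoImplicit false
open Cfsg

namespace Cfsg.Agent.KFacts.MulY.CoOneCover

open Subgroup
open Cfsg.Agent.SporadicA.Co0Mono
open Cfsg.Agent.SporadicA.Co1Simple
open Cfsg.Agent.CoOneType.SignFacts
open Cfsg.Agent.CoOneType.CoOneE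
open Cfsg.Agent.KFacts.MulY.UniqueCover
open Cfsg.Agent.KFacts.MulDef
open scoped commutatorElement

theorem q_projInv : ∀ i : GolayPt, qrWord 0 i + qrWord 0 (projInv.symm i) = 1 := by decide +kernel

theorem allOne_mem_commutator : signCo0 allOne ∈ commutator Co0 := by
  let τ : M24 := ⟨projInv, Cfsg.Agent.S0372.result⟩
  have h : allOne = wordPerm τ (q 0) + q 0 := by
    apply Subtype.ext
    funext i
    have h1 := q_projInv i
    rw [add_comm] at h1
    exact h1.symm
  rw [h, signCo0_add, ← perm_mul_sign_mul_inv]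
  have h2 : (signCo0 (q 0))⁻¹ = signCo0 (q 0) := signCo0_inv _
  have h3 := Subgroup.commutator_mem_commutator (Subgroup.mem_top (permCo0 τ)) (Subgroup.mem_top (signCo0 (q 0)))
  rw [commutatorElement_def, h2] at h3
  exact h3

theorem center_le_commutator : Subgroup.center Co0 ≤ commutator Co0 := by
  intro z hz
  rcases (Cfsg.Agent.CoOneType.CoOneE.mem_center_iff z).1 hz with rfl | rfl
  · exact one_mem _
  · exact allOne_mem_commutator

/-- `Co1` is perfect. -/
theorem commutator_Co1 : commutator Spor.Co1 = ⊤ := by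
  have hs : IsSimpleGroup Spor.Co1 := Cfsg.Agent.S0399.result.1
  rcases (inferInstance : (commutator Spor.Co1).Normal).eq_bot_or_eq_top with h | h
  · exfalso
    have hcomm : ∀ a b : Spor.Co1, a * b = b * a := by
      intro a b
      have h1 : ⁅a, b⁆ ∈ commutator Spor.Co1 :=
        Subgroup.commutator_mem_commutator (Subgroup.mem_top a) (Subgroup.mem_top b)
      rw [h, Subgroup.mem_bot, commutatorElement_eq_one_iff_mul_comm] at h1
      exact h1
    let _ : CommGroup Spor.Co1 := { (inferInstance : Group Spor.Co1) with mul_comm := hcomm }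
    have : IsSimpleGroup Spor.Co1 := Cfsg.Agent.S0399.result.1
    have h2 : (Nat.card Spor.Co1).Prime := IsSimpleGroup.prime_card
    have h3 : Nat.card Spor.Co1 = 4157776806543360000 := Cfsg.Agent.S0399.result.2
    rw [h3] at h2
    exact absurd h2 (by norm_num)
  · exact h

/-- `Co0` is perfect. -/
theorem commutator_Co0 : commutator Co0 = ⊤ := by
  rw [eq_top_iff]
  intro g _
  have h1 : (commutator Co0).map pr = ⊤ := by
    rw [commutator_def, map_commutator, Subgroup.map_top_of_surjective pr pr_surjective, ← commutator_def,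
      commutator_Co1]
  have h2 : pr g ∈ (commutator Co0).map pr := by rw [h1]; trivial
  obtain ⟨x, hx, hxg⟩ := h2
  have h4 : x⁻¹ * g ∈ Subgroup.center Co0 := QuotientGroup.eq.1 hxg
  have h3 := (commutator Co0).mul_mem hx (center_le_commutator h4)
  rwa [mul_inv_cancel_left] at h3

theorem ker_pr : pr.ker = center Co0 := QuotientGroup.ker_mk' _

theorem card_ker_pr : Nat.card pr.ker = 2 := by
  rw [ker_pr]; exact Cfsg.Agent.S0398.result

theorem cov_pr : Cov pr where
  surj := pr_surjective
  cen := ker_pr.le
  two := IsPGroup.of_card (n := 1) (by rw [card_ker_pr, pow_one])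
  perf := commutator_Co0

/-- **A perfect central extension of `Co1` by a 2-group is `Co1` or `Co0`.** -/
theorem cover {L : Type*} [Group L] [Finite L] {π : L →* Spor.Co1} (h : Cov π) {o : golayCode} (ho : wt o = 8)
    (hC : centralizer ({pr (signCo0 o)} : Set Spor.Co1) ≤
      ⁅centralizer ({pr (signCo0 o)} : Set Spor.Co1), centralizer ({pr (signCo0 o)} : Set Spor.Co1)⁆)
    (h24 : NoDouble M24) : Function.Bijective π ∨ ∃ e : L ≃* Co0, ∀ x, pr (e x) = π x := by
  have h1 := CoOne.card_le_two h.perf h.surj h.cen h.two ho hC h24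
  have h0 : 0 < Nat.card π.ker := Nat.card_pos
  rcases (by omega : Nat.card π.ker = 1 ∨ Nat.card π.ker = 2) with h2 | h2
  · left
    refine ⟨?_, h.surj⟩
    rw [← MonoidHom.ker_eq_bot_iff]
    exact Subgroup.card_eq_one.1 h2
  · right
    refine exists_equiv h cov_pr h2 card_ker_pr ?_
    intro h3
    exact CoOne.card_le_two h3.perf h3.surj h3.cen h3.two ho hC h24

end Cfsg.Agent.KFacts.MulY.CoOneCover
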