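import Cfsg.Agent.KFacts.MulY.CoTwoHat
import Cfsg.Agent.KFacts.MulY.UniqueCover
import Cfsg.Agent.KFacts.MulLift
import Cfsg.Agent.Co2Type.CardCo2
import Cfsg.Agent.Schreier.McLaughlin
import Cfsg.Agent.SporadicA.MathieuRecog

/-!
# `Co2` has no perfect double cover (helper249)

`noDouble`: from the same property of the McLaughlin group.
-/

set_option autoImplicit false
open Cfsg

namespace Cfsg.Agent.KFacts.MulY.CoTwo

open Subgroup
open Cfsg.Agent.SporadicA.GolayBase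
open Cfsg.Agent.SporadicA.GolayPerm
open Cfsg.Agent.SporadicA.Co0Mono
open Cfsg.Agent.SporadicA.Co1Simple
open Cfsg.Agent.SporadicStructure.M24El
open Cfsg.Agent.Co2Type.Mono
open Cfsg.Agent.Co2Type.TData
open Cfsg.Agent.Co2Type.TGroup
open Cfsg.Agent.Co2Type.FactsD
open Cfsg.Agent.KFacts.MulY.ClassLift
open Cfsg.Agent.KFacts.MulY.CoTwoHat
open Cfsg.Agent.KFacts.MulDef
open scoped commutatorElement

/-! ### perfect groups -/

theorem commutator_simple {G : Type*} [Group G] [IsSimpleGroup G] (h : ¬ ∀ a b : G, a * b = b * a) :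
    commutator G = ⊤ := by
  rcases (inferInstance : IsSimpleGroup G).eq_bot_or_eq_top_of_normal (commutator G) inferInstance with h1 | h1
  · exfalso
    apply h
    intro a b
    have h2 : ⁅a, b⁆ ∈ commutator G :=
      Subgroup.commutator_mem_commutator (Subgroup.mem_top a) (Subgroup.mem_top b)
    rw [h1, Subgroup.mem_bot, commutatorElement_eq_one_iff_mul_comm] at h2
    exact h2
  · exact h1

theorem commutator_of_card {G : Type*} [Group G] [IsSimpleGroup G] (h : ¬ (Nat.card G).Prime) :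
    commutator G = ⊤ := by
  apply commutator_simple
  intro hc
  apply h
  let _ : CommGroup G := { (inferInstance : Group G) with mul_comm := hc }
  exact IsSimpleGroup.prime_card

/-! ### `M22` in `McL` -/

theorem mem_M24 (σ : Spor.M22) : (σ : Equiv.Perm GolayPt) ∈ M24 := σ.2.1.1

/-- the inclusion in `M24` -/
def incl : Spor.M22 →* M24 := Subgroup.inclusion (fun _ h => h.1.1)

theorem incl_none (σ : Spor.M22) : (incl σ : Equiv.Perm GolayPt) none = none := σ.2.1.2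

theorem incl_zero (σ : Spor.M22) : (incl σ : Equiv.Perm GolayPt) (some 0) = some 0 := σ.2.2

theorem pr_incl (σ : Spor.M22) : Pr (incl σ) := Or.inl ⟨incl_none σ, incl_zero σ⟩

theorem smul_V (σ : Spor.M22) : permCo0 (incl σ) • Spor.leechV = Spor.leechV := by
  apply Subtype.ext
  funext p
  rw [permCo0_smul, permMap_apply]
  show (if (incl σ : Equiv.Perm GolayPt).symm p = none then (-5 : ℤ) else -1) = if p = none then -5 else -1
  have h1 : ((incl σ : Equiv.Perm GolayPt).symm p = none) ↔ p = none := by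
    rw [Equiv.symm_apply_eq, incl_none]
  by_cases h2 : p = none
  · rw [if_pos h2, if_pos (h1.2 h2)]
  · rw [if_neg h2, if_neg (fun h3 => h2 (h1.1 h3))]

/-- the embedding of `M22` in `McL` -/
def emb : Spor.M22 →* Spor.McL :=
  (Co0.subtype.comp (permCo0.comp incl)).codRestrict Spor.McL (fun σ =>
    ⟨⟨(permCo0 (incl σ)).2, smul_V σ⟩, (pr_incl σ).smul⟩)

/-- the inclusion of `McL` in `Co2` -/
def ι : Spor.McL →* Spor.Co2 := Subgroup.inclusion (fun _ h => ⟨h.1.1, h.2⟩)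

theorem toCo0_emb (σ : Spor.M22) : toCo0 (ι (emb σ)) = permCo0 (incl σ) := rfl

/-- the image of `M22` -/
def TT : Subgroup Spor.Co2 := (ι.comp emb).range

theorem mem_TT {g : Spor.Co2} : g ∈ TT ↔ ∃ σ : M24, (σ : Equiv.Perm GolayPt) none = none ∧
    (σ : Equiv.Perm GolayPt) (some 0) = some 0 ∧ toCo0 g = permCo0 σ := by
  constructor
  · rintro ⟨σ, rfl⟩
    exact ⟨incl σ, incl_none σ, incl_zero σ, rfl⟩
  · rintro ⟨σ, h1, h2, h3⟩
    refine ⟨⟨σ, ⟨σ.2, h1⟩, h2⟩, toCo0_injective ?_⟩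
    rw [h3]; rfl

theorem commutator_M22 : commutator Spor.M22 = ⊤ := by
  have : IsSimpleGroup Spor.M22 := Cfsg.Agent.SporadicA.MathieuRecog.simple_M22
  apply commutator_of_card
  rw [Cfsg.Agent.SporadicA.MathieuRecog.card_M22]
  norm_num

theorem commutator_McL : commutator Spor.McL = ⊤ := by
  have : IsSimpleGroup Spor.McL := Cfsg.Agent.Schreier.McLaughlin.isSimple_mcl
  apply commutator_of_card
  rw [Cfsg.Agent.Schreier.McLaughlin.card_mcl]
  norm_num

theorem sign_perm_eq {c : golayCode} {σ : M24} (h : signCo0 c = permCo0 σ) : σ = 1 := by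
  apply Cfsg.Agent.SporadicA.Co1Simple.perm_eq_one (d := c)
  rw [h, ← h, signCo0_mul_self]

section

variable {L : Type*} [Group L] {π : L →* Spor.Co2} {c : L} {t : golayCode → L}

/-- the preimage of `M22` -/
def UU (π : L →* Spor.Co2) : Subgroup L := TT.comap π

/-- its commutator subgroup -/
def TL (π : L →* Spor.Co2) : Subgroup L := ⁅UU π, UU π⁆

theorem TL_le : TL π ≤ UU π := by
  unfold TL
  rw [commutator_le]
  intro a ha b hb
  exact mul_mem (mul_mem (mul_mem ha hb) (inv_mem ha)) (inv_mem hb)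

theorem ext_of_dbl (hd : Dbl π c) : Ext π := ⟨hd.surj, fun z hz x => by
  rcases (hd.ker z).1 hz with rfl | rfl
  · simp
  · exact hd.cen x⟩

theorem ker_le (hπ : Ext π) : π.ker ≤ center L := fun z hz =>
  mem_center_iff.2 fun x => (hπ.cen z hz x).symm

theorem map_TL (hπ : Ext π) : (TL π).map π = TT := by
  unfold TL UU
  rw [map_commutator, map_comap_eq_self_of_surjective hπ.surj]
  unfold TT
  rw [MonoidHom.range_eq_map, ← map_commutator, ← commutator_def, commutator_M22]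

theorem c_notMem_TL [Finite L] (hd : Dbl π c) (hM : NoDouble Spor.McL) : c ∉ TL π := by
  have hfin : Finite Spor.McL := Nat.finite_of_card_ne_zero (by
    rw [Cfsg.Agent.Schreier.McLaughlin.card_mcl]; norm_num)
  obtain ⟨s, hs⟩ := Cfsg.Agent.KFacts.MulLift.exists_lift_of_noDouble commutator_McL hM ι hd
  have h1 : TL π ≤ (s.comp emb).range := by
    unfold TL
    rw [commutator_le]
    intro x hx y hy
    obtain ⟨σ, hσ⟩ := (show π x ∈ (ι.comp emb).range from hx)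
    obtain ⟨τ, hτ⟩ := (show π y ∈ (ι.comp emb).range from hy)
    refine ⟨⁅σ, τ⁆, ?_⟩
    rw [map_commutatorElement]
    symm
    apply UniqueCover.comm_eq (ker_le (ext_of_dbl hd))
    · rw [← hσ]; exact (hs _).symm
    · rw [← hτ]; exact (hs _).symm
  intro hc
  obtain ⟨σ, hσ⟩ := h1 hc
  have h2 : π c = 1 := (hd.ker c).2 (Or.inr rfl)
  have h3 : ι (emb σ) = 1 := by
    rw [← hs, ← h2, ← hσ]; rfl
  have h4 : emb σ = 1 := by
    have : Function.Injective ι := Subgroup.inclusion_injective _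
    exact this (by rw [h3, map_one])
  apply hd.ne
  rw [← hσ]
  show s (emb σ) = 1
  rw [h4, map_one]

/-- The product of the two groups. -/
def MM (H : Hat π t) : Subgroup L where
  carrier := {x | ∃ h ∈ HH t, ∃ s ∈ TL π, x = h * s}
  one_mem' := ⟨1, one_mem _, 1, one_mem _, by rw [mul_one]⟩
  mul_mem' := by
    rintro _ _ ⟨h, hh, s, hs, rfl⟩ ⟨h', hh', s', hs', rfl⟩
    obtain ⟨σ, h1, h2, h3⟩ := mem_TT.1 (TL_le hs)
    exact ⟨h * (s * h' * s⁻¹), mul_mem hh (H.normal (Or.inl ⟨h1, h2⟩) h3 hh'), s * s', mul_mem hs hs', by group⟩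
  inv_mem' := by
    rintro _ ⟨h, hh, s, hs, rfl⟩
    obtain ⟨σ, h1, h2, h3⟩ := mem_TT.1 (TL_le (inv_mem hs))
    refine ⟨s⁻¹ * h⁻¹ * s⁻¹⁻¹, H.normal (Or.inl ⟨h1, h2⟩) h3 (inv_mem hh), s⁻¹, inv_mem hs, by group⟩

theorem HH_le_MM (H : Hat π t) : HH t ≤ MM H := fun h hh => ⟨h, hh, 1, one_mem _, by rw [mul_one]⟩

theorem TL_le_MM (H : Hat π t) : TL π ≤ MM H := fun s hs => ⟨1, one_mem _, s, hs, by rw [one_mul]⟩

theorem c_notMem_MM [Finite L] (hd : Dbl π c) (hM : NoDouble Spor.McL) (H : Hat π t) : c ∉ MM H := by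
  rintro ⟨h, hh, s, hs, e⟩
  have h1 : π c = 1 := (hd.ker c).2 (Or.inr rfl)
  rw [e, map_mul] at h1
  obtain ⟨m, hm, hm'⟩ := H.map_HH_le (mem_map_of_mem π hh)
  obtain ⟨σ, -, -, hσ⟩ := mem_TT.1 (TL_le hs)
  have h2 : signCo0 (cd m) = permCo0 σ⁻¹ := by
    rw [map_inv, ← hσ, ← toCo0_ge hm]
    show toCo0 (mo2 m idP) = _
    rw [← hm', ← map_inv]
    exact congrArg toCo0 (eq_inv_of_mul_eq_one_left h1)
  have h3 := inv_eq_one.1 (sign_perm_eq h2)
  have h4 : π s = 1 := toCo0_injective (by rw [hσ, h3, map_one, map_one])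
  rw [h4, mul_one] at h1
  have h5 := H.ker (ext_of_dbl hd) hh h1
  rw [h5, one_mul] at e
  exact c_notMem_TL hd hM (e ▸ hs)

/-- conjugation of `TL` -/
theorem conj_TL {σ : M24} (hσ : Pr σ) {x s : L} (hx : toCo0 (π x) = permCo0 σ) (hs : s ∈ TL π) :
    x * s * x⁻¹ ∈ TL π := by
  have h1 : UU π ≤ (UU π).comap (MulAut.conj x).toMonoidHom := by
    intro y hy
    obtain ⟨τ, h1, h2, h3⟩ := mem_TT.1 (show π y ∈ TT from hy)
    show π (x * y * x⁻¹) ∈ TT
    rw [mem_TT]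
    refine ⟨σ * τ * σ⁻¹, ?_, ?_, ?_⟩
    · show (σ : Equiv.Perm GolayPt) ((τ : Equiv.Perm GolayPt) ((σ : Equiv.Perm GolayPt)⁻¹ none)) = none
      rcases hσ with ⟨e1, e2⟩ | ⟨e1, e2⟩
      · rw [Equiv.Perm.inv_eq_iff_eq.2 e1.symm, h1, e1]
      · rw [Equiv.Perm.inv_eq_iff_eq.2 e2.symm, h2, e2]
    · show (σ : Equiv.Perm GolayPt) ((τ : Equiv.Perm GolayPt) ((σ : Equiv.Perm GolayPt)⁻¹ (some 0))) = some 0
      rcases hσ with ⟨e1, e2⟩ | ⟨e1, e2⟩
      · rw [Equiv.Perm.inv_eq_iff_eq.2 e2.symm, h2, e2]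
      · rw [Equiv.Perm.inv_eq_iff_eq.2 e1.symm, h1, e1]
    · rw [map_mul, map_mul, map_mul, map_mul, map_inv, map_inv, hx, h3, map_mul, map_mul, map_inv]
  have h2 : TL π ≤ (TL π).comap (MulAut.conj x).toMonoidHom := by
    conv_lhs => unfold TL
    rw [commutator_le]
    intro a ha b hb
    show (MulAut.conj x) ⁅a, b⁆ ∈ TL π
    rw [map_commutatorElement]
    exact commutator_mem_commutator (h1 ha) (h1 hb)
  exact h2 hs

/-- the preimage of the Sylow 2-subgroup -/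
def PP (π : L →* Spor.Co2) : Subgroup L := T.comap π

theorem pr_of_okP {P : ℕ} (h : okP P = true) : Pr (el P) := by
  obtain ⟨h1, h2⟩ := okP_iff.1 h
  have e : ∀ p, (el P : Equiv.Perm GolayPt) p = pt (papp P (idx p)) := fun p => el_smul_pt h1 p
  have e1 : (el P : Equiv.Perm GolayPt) none = pt (papp P 23) := e none
  have e2 : (el P : Equiv.Perm GolayPt) (some 0) = pt (papp P 0) := e (some 0)
  rcases h2 with ⟨h3, h4⟩ | ⟨h3, h4⟩
  · left
    rw [e1, e2, h3, h4]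
    exact ⟨KFacts.CoTwo.Base.pt23, KFacts.CoTwo.Base.pt0⟩
  · right
    rw [e1, e2, h3, h4]
    exact ⟨KFacts.CoTwo.Base.pt0, KFacts.CoTwo.Base.pt23⟩

/-- decomposition -/
theorem exists_dec (H : Hat π t) {x : L} (hx : x ∈ PP π) :
    ∃ h ∈ HH t, ∃ y : L, ∃ P ∈ L22, x = h * y ∧ toCo0 (π y) = permCo0 (el P) := by
  obtain ⟨m, P, hm, hP, e⟩ := (show π x ∈ T from hx)
  obtain ⟨h, hh, hh'⟩ := H.E_le (mo2_mem_E hm)
  refine ⟨h, hh, h⁻¹ * x, P, hP, by group, ?_⟩
  rw [map_mul, map_inv, hh', e, map_mul, map_inv, toCo0_mo2 hm okP_idP, toCo0_mo2 hm (okP_of_mem hP)]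
  unfold mo
  rw [el_idP, map_one, mul_one, inv_mul_cancel_left]

theorem norm_MM (H : Hat π t) {x m : L} (hx : x ∈ PP π) (hm : m ∈ MM H) : x * m * x⁻¹ ∈ MM H := by
  obtain ⟨h, hh, y, P, hP, rfl, hy⟩ := exists_dec H hx
  obtain ⟨h', hh', s, hs, rfl⟩ := hm
  have hpr := pr_of_okP (okP_of_mem hP)
  have e : h * y * (h' * s) * (h * y)⁻¹ = h * ((y * h' * y⁻¹) * (y * s * y⁻¹)) * h⁻¹ := by group
  rw [e]
  exact mul_mem (mul_mem (HH_le_MM H hh) (mul_mem (HH_le_MM H (H.normal hpr hy hh'))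
    (TL_le_MM H (conj_TL hpr hy hs)))) (inv_mem (HH_le_MM H hh))

/-- elements over a permutation fixing the points -/
theorem mem_of_fix (hd : Dbl π c) (H : Hat π t) {x : L} {m P : ℕ} (hm : inE m = true) (hP : P ∈ L22)
    (e : π x = mo2 m P) (h1 : (el P : Equiv.Perm GolayPt) none = none) : ∃ y ∈ MM H, π x = π y := by
  have h2 : (el P : Equiv.Perm GolayPt) (some 0) = some 0 := by
    rcases pr_of_okP (okP_of_mem hP) with h | h
    · exact h.2
    · rw [h.1] at h1; exact absurd h1 (by decide)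
  obtain ⟨h, hh, hh'⟩ := H.E_le (mo2_mem_E hm)
  have h3 : mo2 0 P ∈ TT := mem_TT.2 ⟨el P, h1, h2, by
    rw [toCo0_mo2 inE_zero (okP_of_mem hP)]; unfold mo; rw [cd_zero, signCo0_zero, one_mul]⟩
  rw [← map_TL (ext_of_dbl hd)] at h3
  obtain ⟨s, hs, hs'⟩ := h3
  refine ⟨h * s, ⟨h, hh, s, hs, rfl⟩, ?_⟩
  rw [map_mul, hh', hs', e, mo2_mul_left hm inE_zero (okP_of_mem hP), Nat.xor_zero]

theorem comm_mem_of (hd : Dbl π c) (H : Hat π t) {x y : L} (hx : x ∈ PP π) (hy : y ∈ PP π)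
    (h : (∃ m ∈ MM H, π x = π m) ∨ (∃ m ∈ MM H, π y = π m) ∨ ∃ m ∈ MM H, π (x * y⁻¹) = π m) :
    ⁅x, y⁆ ∈ MM H := by
  have hk := ker_le (ext_of_dbl hd)
  rcases h with ⟨m, hm, e⟩ | ⟨m, hm, e⟩ | ⟨m, hm, e⟩
  · rw [UniqueCover.comm_eq hk e (rfl : π y = π y), commutatorElement_def]
    have e2 : m * y * m⁻¹ * y⁻¹ = m * (y * m⁻¹ * y⁻¹) := by group
    rw [e2]
    exact mul_mem hm (norm_MM H hy (inv_mem hm))
  · rw [UniqueCover.comm_eq hk (rfl : π x = π x) e, commutatorElement_def]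
    exact mul_mem (norm_MM H hx hm) (inv_mem hm)
  · have e3 : π x = π (m * y) := by
      rw [map_mul, ← e, ← map_mul, inv_mul_cancel_right]
    rw [UniqueCover.comm_eq hk e3 (rfl : π y = π y), commutatorElement_def]
    have e2 : m * y * y * (m * y)⁻¹ * y⁻¹ = m * (y * m⁻¹ * y⁻¹) := by group
    rw [e2]
    exact mul_mem hm (norm_MM H hy (inv_mem hm))

theorem comm_le (hd : Dbl π c) (H : Hat π t) : ⁅PP π, PP π⁆ ≤ MM H := by
  rw [commutator_le]
  intro x hx y hy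
  apply comm_mem_of hd H hx hy
  obtain ⟨m, P, hm, hP, e⟩ := (show π x ∈ T from hx)
  obtain ⟨n, Q, hn, hQ, f⟩ := (show π y ∈ T from hy)
  rcases pr_of_okP (okP_of_mem hP) with h1 | h1
  · exact Or.inl (mem_of_fix hd H hm hP e h1.1)
  rcases pr_of_okP (okP_of_mem hQ) with h2 | h2
  · exact Or.inr (Or.inl (mem_of_fix hd H hn hQ f h2.1))
  right; right
  obtain ⟨k, R, hk, hR, g⟩ := (show π (x * y⁻¹) ∈ T from mul_mem hx (inv_mem hy))
  refine mem_of_fix hd H hk hR g ?_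
  have h3 : mo2 k R * mo2 n Q = mo2 m P := by
    rw [← g, ← f, ← e, ← map_mul, inv_mul_cancel_right]
  rw [mo2_mul hk hn (okP_of_mem hR) (okP_of_mem hQ)] at h3
  have h4 := congrArg toCo0 h3
  rw [toCo0_mo2 (inE_xor hk (inE_pimg (okP_of_mem hR) hn)) (okP_of_mem (pcomp_mem hR hQ)),
    toCo0_mo2 hm (okP_of_mem hP)] at h4
  have h5 := (mo_inj (isCode_of_inE (inE_xor hk (inE_pimg (okP_of_mem hR) hn))) (isCode_of_inE hm) h4).2
  rw [el_pcomp (ok_of_mem hR) (ok_of_mem hQ)] at h5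
  have h6 : (el R : Equiv.Perm GolayPt) ((el Q : Equiv.Perm GolayPt) (some 0)) = (el P : Equiv.Perm GolayPt) (some 0) := by
    rw [← h5]; rfl
  rw [h2.2, h1.2] at h6
  exact h6

theorem index_T : T.index = 161382375 := by
  have h1 := T.card_mul_index
  rw [Cfsg.Agent.Co2Type.TCard.card_T, Cfsg.Agent.Co2Type.CardCo2.card_co2] at h1
  omega

end

/-- **`Co2` has no perfect double cover.** -/
theorem noDouble (hM : NoDouble Spor.McL) : NoDouble Spor.Co2 := by
  intro L _ _ π c hd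
  obtain ⟨t, H⟩ := exists_hat (ext_of_dbl hd)
  have hcP : c ∈ PP π := by
    show π c ∈ T
    rw [(hd.ker c).2 (Or.inr rfl)]
    exact one_mem _
  have hidx : ¬ 2 ∣ (PP π).index := by
    unfold PP
    rw [index_comap_of_surjective _ hd.surj, index_T]
    norm_num
  have h1 := hd.toCtr.hom_eq_one hcP hidx (Abelianization.of (G := PP π))
  have h2 : (⟨c, hcP⟩ : PP π) ∈ commutator (PP π) := by
    rw [← Abelianization.ker_of]
    exact h1
  apply c_notMem_MM hd hM H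
  apply comm_le hd H
  rw [← Subgroup.map_subtype_commutator]
  exact ⟨_, h2, rfl⟩

end Cfsg.Agent.KFacts.MulY.CoTwo
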