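import Cfsg.Agent.KFacts.MulY.HexTrans
import Cfsg.Agent.KFacts.MulY.CoOne
import Cfsg.Agent.KFacts.CoTwo.Perf
import Cfsg.Agent.Co2Type.TCard

/-!
# Lifts of the elementary abelian group of order `2 ^ 10` of `Co2` to a double cover (helper249)

`exists_HH`: a subgroup of the covering group meeting the kernel trivially, lying over the group of sign changes and
normalised by everything over a permutation.
-/

set_option autoImplicit false
set_option Elab.async false
open Cfsg

namespace Cfsg.Agent.KFacts.MulY.CoTwoHat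

open Subgroup
open Cfsg.Agent.SporadicA.GolayBase
open Cfsg.Agent.SporadicA.Co0Mono
open Cfsg.Agent.SporadicA.Co1Simple
open Cfsg.Agent.SporadicStructure.M24El
open Cfsg.Agent.CoOneType.SignFacts
open Cfsg.Agent.CoOneType.CoOneE hiding E
open Cfsg.Agent.Co2Type.Mono
open Cfsg.Agent.Co2Type.TData
open Cfsg.Agent.Co2Type.TGroup
open Cfsg.Agent.Co2Type.FactsD
open Cfsg.Agent.KFacts.MulY.OctadGen
open Cfsg.Agent.KFacts.MulY.GoodTrans
open Cfsg.Agent.KFacts.MulY.HexadGen
open Cfsg.Agent.KFacts.MulY.ClassLift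

/-! ### sign changes -/

/-- words avoiding the two points -/
def Av (c : golayCode) : Prop := (c : GolayPt → ZMod 2) none = 0 ∧ (c : GolayPt → ZMod 2) (some 0) = 0

theorem Av.add {c d : golayCode} (hc : Av c) (hd : Av d) : Av (c + d) := by
  refine ⟨?_, ?_⟩
  · show (c : GolayPt → ZMod 2) none + (d : GolayPt → ZMod 2) none = 0
    rw [hc.1, hd.1, add_zero]
  · show (c : GolayPt → ZMod 2) (some 0) + (d : GolayPt → ZMod 2) (some 0) = 0
    rw [hc.2, hd.2, add_zero]

theorem allOne_apply (p : GolayPt) : (allOne : GolayPt → ZMod 2) p = 1 := rfl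

theorem av_hex {c : golayCode} (hc : Hex c) : Av (c + allOne) := by
  refine ⟨?_, ?_⟩
  · show (c : GolayPt → ZMod 2) none + (allOne : GolayPt → ZMod 2) none = 0
    rw [hc.none, allOne_apply]; decide
  · show (c : GolayPt → ZMod 2) (some 0) + (allOne : GolayPt → ZMod 2) (some 0) = 0
    rw [hc.zero, allOne_apply]; decide

/-- the mask -/
def mk (c : golayCode) : ℕ := maskW (c : GolayPt → ZMod 2)

theorem isCode_mk (c : golayCode) : isCode (mk c) = true := (mem_golayCode_iff (c : GolayPt → ZMod 2)).1 c.2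

theorem cd_mk (c : golayCode) : cd (mk c) = c := by
  apply Subtype.ext
  rw [coe_cd (isCode_mk c)]
  exact word_maskW _

theorem inE_mk {c : golayCode} (h : Av c) : inE (mk c) = true := by
  rw [inE_iff]
  refine ⟨isCode_mk c, ?_, ?_⟩
  · by_contra hc
    rw [Bool.not_eq_false] at hc
    have h1 : word (mk c) (some 0) = 1 := by
      rw [word_apply]; exact if_pos hc
    rw [← coe_cd (isCode_mk c), cd_mk, h.2] at h1
    exact absurd h1 (by decide)
  · by_contra hc
    rw [Bool.not_eq_false] at hc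
    have h1 : word (mk c) none = 1 := by
      rw [word_apply]; exact if_pos hc
    rw [← coe_cd (isCode_mk c), cd_mk, h.1] at h1
    exact absurd h1 (by decide)

/-- sign changes in `Co2` -/
noncomputable def sg (c : golayCode) : Spor.Co2 := ge (mk c)

theorem toCo0_ge {m : ℕ} (hm : inE m = true) : toCo0 (ge m) = signCo0 (cd m) := by
  unfold ge
  rw [toCo0_mo2 hm okP_idP]
  unfold mo
  rw [el_idP, map_one, mul_one]

theorem toCo0_sg {c : golayCode} (h : Av c) : toCo0 (sg c) = signCo0 c := by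
  unfold sg
  rw [toCo0_ge (inE_mk h), cd_mk]

theorem sg_cw (i : ℕ) : sg (cw i) = ge (enc i) := by
  unfold sg mk
  show ge (maskW (word (enc i))) = _
  rw [maskW_word (enc_lt i)]

theorem sg_add {c d : golayCode} (hc : Av c) (hd : Av d) : sg (c + d) = sg c * sg d := by
  apply toCo0_injective
  rw [map_mul, toCo0_sg hc, toCo0_sg hd, toCo0_sg (hc.add hd), signCo0_add]

theorem sg_sq {c : golayCode} (hc : Av c) : sg c * sg c = 1 := by
  apply toCo0_injective
  rw [map_mul, toCo0_sg hc, signCo0_mul_self, map_one]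

theorem sg_comm {c d : golayCode} (hc : Av c) (hd : Av d) : sg c * sg d = sg d * sg c := by
  rw [← sg_add hc hd, add_comm, sg_add hd hc]

/-- the sign changes on the complements of hexads -/
noncomputable def A (c : golayCode) : Spor.Co2 := sg (c + allOne)

theorem A_mul {c d : golayCode} (hc : Hex c) (hd : Hex d) : A c * A d = sg (c + d) := by
  unfold A
  rw [← sg_add (av_hex hc) (av_hex hd)]
  congr 1
  apply Subtype.ext
  funext p
  show ((c : GolayPt → ZMod 2) p + 1) + ((d : GolayPt → ZMod 2) p + 1) = (c : GolayPt → ZMod 2) p + (d : GolayPt → ZMod 2) p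
  generalize (c : GolayPt → ZMod 2) p = x
  generalize (d : GolayPt → ZMod 2) p = y
  revert x y
  decide

theorem A_sq {c : golayCode} (hc : Hex c) : A c * A c = 1 := sg_sq (av_hex hc)

theorem A_comm {c d : golayCode} (hc : Hex c) (hd : Hex d) : A c * A d = A d * A c := sg_comm (av_hex hc) (av_hex hd)

theorem A_cls : allR 12 0 (fun i => !(hexB i) ||
    (inE (enc (Nat.xor i 4095)) && tA (enc (Nat.xor i 4095)) idP)) = true := by decide +kernel

theorem allOne_eq : allOne = cw 4095 := by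
  apply Subtype.ext
  funext p
  show (1 : ZMod 2) = word (enc 4095) p
  revert p
  decide +kernel

theorem isConj_A {c : golayCode} (hc : Hex c) : IsConj (ge mz) (A c) := by
  obtain ⟨i, hi, rfl⟩ := exists_cw c
  have h := allR_zero_spec A_cls i hi
  rw [hex_cw] at hc
  rw [hc, Bool.not_true, Bool.false_or, Bool.and_eq_true] at h
  unfold A
  rw [allOne_eq, ← cw_xor, sg_cw]
  exact Cfsg.Agent.Co2Type.FactsCo2.cls.geA h.1 h.2

/-! ### permutations -/

/-- preserving the pair of points -/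
def Pr (σ : M24) : Prop :=
  ((σ : Equiv.Perm GolayPt) none = none ∧ (σ : Equiv.Perm GolayPt) (some 0) = some 0) ∨
    ((σ : Equiv.Perm GolayPt) none = some 0 ∧ (σ : Equiv.Perm GolayPt) (some 0) = none)

theorem Pr.hex {σ : M24} (h : Pr σ) {c : golayCode} (hc : Hex c) : Hex (wordPerm σ c) := by
  refine ⟨by rw [wt_wordPerm]; exact hc.wt, ?_, ?_⟩
  · rw [wordPerm_apply]
    rcases h with h | h
    · rw [(Equiv.symm_apply_eq _).2 h.1.symm]; exact hc.none
    · rw [(Equiv.symm_apply_eq _).2 h.2.symm]; exact hc.zero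
  · rw [wordPerm_apply]
    rcases h with h | h
    · rw [(Equiv.symm_apply_eq _).2 h.2.symm]; exact hc.zero
    · rw [(Equiv.symm_apply_eq _).2 h.1.symm]; exact hc.none

theorem Pr.smul {σ : M24} (h : Pr σ) : permCo0 σ • Spor.leechU = Spor.leechU := by
  apply Subtype.ext
  funext p
  rw [permCo0_smul, permMap_apply]
  show (if (σ : Equiv.Perm GolayPt).symm p = none ∨ (σ : Equiv.Perm GolayPt).symm p = some 0 then (4 : ℤ) else 0) =
    if p = none ∨ p = some 0 then 4 else 0
  have h1 : ((σ : Equiv.Perm GolayPt).symm p = none ∨ (σ : Equiv.Perm GolayPt).symm p = some 0) ↔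
      (p = none ∨ p = some 0) := by
    rw [Equiv.symm_apply_eq, Equiv.symm_apply_eq]
    rcases h with h | h
    · rw [h.1, h.2]
    · rw [h.1, h.2]; exact or_comm
  by_cases h2 : p = none ∨ p = some 0
  · rw [if_pos h2, if_pos (h1.2 h2)]
  · rw [if_neg h2, if_neg (fun h3 => h2 (h1.1 h3))]

theorem wordPerm_allOne (σ : M24) : wordPerm σ allOne = allOne := by
  apply Subtype.ext
  funext p
  rw [wordPerm_apply, allOne_apply, allOne_apply]

theorem Pr.perm_A {σ : M24} (h : Pr σ) {g : Spor.Co2} (hg : toCo0 g = permCo0 σ) {c : golayCode} (hc : Hex c) :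
    g * A c * g⁻¹ = A (wordPerm σ c) := by
  apply toCo0_injective
  unfold A
  rw [map_mul, map_mul, map_inv, hg, toCo0_sg (av_hex hc), toCo0_sg (av_hex (h.hex hc)), perm_mul_sign_mul_inv,
    wordPerm_add, wordPerm_allOne]

/-! ### hats -/

/-- Lifts of the sign changes on the complements of hexads. -/
structure Hat {L : Type*} [Group L] (π : L →* Spor.Co2) (t : golayCode → L) : Prop where
  map : ∀ c, Hex c → π (t c) = A c
  conj : ∀ (x : L) (c d : golayCode), Hex c → Hex d → π x * A c * (π x)⁻¹ = A d → x * t c * x⁻¹ = t d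
  trans : ∀ c d : golayCode, Hex c → Hex d → ∃ x : L, π x * A c * (π x)⁻¹ = A d

variable {L : Type*} [Group L] {π : L →* Spor.Co2} {t : golayCode → L}

theorem Hat.commute (H : Hat π t) {c d : golayCode} (hc : Hex c) (hd : Hex d) : t c * t d = t d * t c := by
  have h1 := H.conj (t d) c c hc hc (by rw [H.map d hd, A_comm hd hc, mul_inv_cancel_right])
  rw [mul_inv_eq_iff_eq_mul] at h1
  exact h1.symm

theorem Hat.perm (H : Hat π t) {σ : M24} (hσ : Pr σ) {x : L} (hx : toCo0 (π x) = permCo0 σ) {c : golayCode}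
    (hc : Hex c) : x * t c * x⁻¹ = t (wordPerm σ c) :=
  H.conj x c _ hc (hσ.hex hc) (hσ.perm_A hx hc)

theorem Hat.sq_eq (hπ : Ext π) (H : Hat π t) {c d : golayCode} (hc : Hex c) (hd : Hex d) :
    t c * t c = t d * t d := by
  obtain ⟨x, hx⟩ := H.trans c d hc hd
  have hz := hπ.cen (t c * t c) (by rw [map_mul, H.map c hc, A_sq hc]) x
  calc t c * t c = t c * t c * x * x⁻¹ := by rw [mul_inv_cancel_right]
    _ = x * (t c * t c) * x⁻¹ := by rw [hz]
    _ = (x * t c * x⁻¹) * (x * t c * x⁻¹) := by group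
    _ = _ := by rw [H.conj x c d hc hd hx]

/-- The defect. -/
def zt (t : golayCode → L) (a b d : golayCode) : L := t a * t b * (t d * t (a + b + d))⁻¹

theorem Hat.map_zt (H : Hat π t) {a b d : golayCode} (h : Quad a b d) : π (zt t a b d) = 1 := by
  unfold zt
  rw [map_mul, map_mul, map_inv, map_mul, H.map _ h.h1, H.map _ h.h2, H.map _ h.h3, H.map _ h.h, A_mul h.h1 h.h2,
    A_mul h.h3 h.h]
  have e : a + b = d + (a + b + d) := by
    apply Subtype.ext
    funext p
    show (a : GolayPt → ZMod 2) p + (b : GolayPt → ZMod 2) p = (d : GolayPt → ZMod 2) p +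
      ((a : GolayPt → ZMod 2) p + (b : GolayPt → ZMod 2) p + (d : GolayPt → ZMod 2) p)
    generalize (a : GolayPt → ZMod 2) p = x
    generalize (b : GolayPt → ZMod 2) p = y
    generalize (d : GolayPt → ZMod 2) p = z
    revert x y z
    decide
  rw [← e, mul_inv_cancel]

theorem Hat.zt_eq (hπ : Ext π) (H : Hat π t) {a b d a' b' d' : golayCode} (h : Quad a b d) (h' : Quad a' b' d') :
    zt t a b d = zt t a' b' d' := by
  obtain ⟨σ, h1, h2, rfl, rfl, rfl⟩ := HexTrans.exists_perm h h'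
  have hσ : Pr σ := Or.inl ⟨h1, h2⟩
  obtain ⟨g, hg⟩ := exists_toCo0 hσ.smul
  obtain ⟨x, rfl⟩ := hπ.surj g
  have hz := hπ.cen _ (H.map_zt h) x
  calc zt t a b d = zt t a b d * x * x⁻¹ := by rw [mul_inv_cancel_right]
    _ = x * zt t a b d * x⁻¹ := by rw [hz]
    _ = (x * t a * x⁻¹) * (x * t b * x⁻¹) * ((x * t d * x⁻¹) * (x * t (a + b + d) * x⁻¹))⁻¹ := by
        unfold zt; group
    _ = _ := by rw [H.perm hσ hg h.h1, H.perm hσ hg h.h2, H.perm hσ hg h.h3, H.perm hσ hg h.h]; rfl

theorem Hat.zt_one (hπ : Ext π) (H : Hat π t) {a b d : golayCode} (h : Quad a b d) : zt t a b d = 1 := by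
  obtain ⟨q1, e1⟩ := quad1
  obtain ⟨q2, e2⟩ := quad2
  obtain ⟨q3, e3⟩ := quad3
  have h1 := H.zt_eq hπ h q1
  have h2 := H.zt_eq hπ h q2
  have h3 := H.zt_eq hπ h q3
  have h4 : zt t (cw 1) (cw 3) (cw 9) * zt t (cw 9) (cw 11) (cw 21) = zt t (cw 1) (cw 3) (cw 21) := by
    unfold zt
    rw [e1, e2, e3]; group
  rw [← h1, ← h2, ← h3] at h4
  exact mul_eq_left.1 h4

theorem Hat.mul_eq (hπ : Ext π) (H : Hat π t) {a b d : golayCode} (h : Quad a b d) :
    t a * t b = t d * t (a + b + d) := by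
  have := H.zt_one hπ h
  unfold zt at this
  exact mul_inv_eq_one.1 this

/-- the base hexad -/
def c0 : golayCode := cw (bs 10)

theorem hex_c0 : Hex c0 := hex_bs 10 (by norm_num)

/-- the linear lifts -/
def u (t : golayCode → L) (c : golayCode) : L := t c * (t c0)⁻¹

theorem Hat.comm_inv (H : Hat π t) {c d : golayCode} (hc : Hex c) (hd : Hex d) :
    t c * (t d)⁻¹ = (t d)⁻¹ * t c := by
  rw [eq_inv_mul_iff_mul_eq, ← mul_assoc, ← H.commute hc hd, mul_inv_cancel_right]

theorem Hat.u_comm (H : Hat π t) {c d : golayCode} (hc : Hex c) (hd : Hex d) :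
    u t c * u t d = u t d * u t c := by
  unfold u
  have h1 := H.comm_inv hc hex_c0
  have h2 := H.comm_inv hd hex_c0
  calc t c * (t c0)⁻¹ * (t d * (t c0)⁻¹) = t c * ((t c0)⁻¹ * t d) * (t c0)⁻¹ := by group
    _ = t c * (t d * (t c0)⁻¹) * (t c0)⁻¹ := by rw [h2]
    _ = (t c * t d) * (t c0)⁻¹ * (t c0)⁻¹ := by group
    _ = (t d * t c) * (t c0)⁻¹ * (t c0)⁻¹ := by rw [H.commute hc hd]
    _ = t d * (t c * (t c0)⁻¹) * (t c0)⁻¹ := by group
    _ = t d * ((t c0)⁻¹ * t c) * (t c0)⁻¹ := by rw [h1]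
    _ = _ := by group

theorem Hat.u_sq (hπ : Ext π) (H : Hat π t) {c : golayCode} (hc : Hex c) : u t c * u t c = 1 := by
  unfold u
  have h1 := H.comm_inv hc hex_c0
  calc t c * (t c0)⁻¹ * (t c * (t c0)⁻¹) = t c * ((t c0)⁻¹ * t c) * (t c0)⁻¹ := by group
    _ = t c * (t c * (t c0)⁻¹) * (t c0)⁻¹ := by rw [h1]
    _ = (t c * t c) * (t c0 * t c0)⁻¹ := by group
    _ = 1 := by rw [H.sq_eq hπ hc hex_c0, mul_inv_cancel]

theorem Hat.u_mul (hπ : Ext π) (H : Hat π t) {a b d : golayCode} (h : Quad a b d) :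
    u t a * u t b * u t d = u t (a + b + d) := by
  unfold u
  have h1 := H.comm_inv h.h2 hex_c0
  have h2 := H.comm_inv h.h3 hex_c0
  have h3 := H.sq_eq hπ h.h3 hex_c0
  calc t a * (t c0)⁻¹ * (t b * (t c0)⁻¹) * (t d * (t c0)⁻¹)
      = t a * ((t c0)⁻¹ * t b) * ((t c0)⁻¹ * t d) * (t c0)⁻¹ := by group
    _ = t a * (t b * (t c0)⁻¹) * (t d * (t c0)⁻¹) * (t c0)⁻¹ := by rw [← h1, h2]
    _ = (t a * t b) * ((t c0)⁻¹ * t d) * (t c0)⁻¹ * (t c0)⁻¹ := by group
    _ = (t d * t (a + b + d)) * (t d * (t c0)⁻¹) * (t c0)⁻¹ * (t c0)⁻¹ := by rw [H.mul_eq hπ h, ← h2]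
    _ = (t (a + b + d) * t d) * (t d * (t c0)⁻¹) * (t c0)⁻¹ * (t c0)⁻¹ := by rw [H.commute h.h3 h.h]
    _ = t (a + b + d) * (t d * t d) * (t c0 * t c0)⁻¹ * (t c0)⁻¹ := by group
    _ = t (a + b + d) * (t c0 * t c0) * (t c0 * t c0)⁻¹ * (t c0)⁻¹ := by rw [h3]
    _ = _ := by group

/-- The group generated by the linear lifts. -/
def HH (t : golayCode → L) : Subgroup L := closure (u t '' {c | Hex c})

theorem mem_HH {c : golayCode} (hc : Hex c) : u t c ∈ HH t := subset_closure ⟨c, hc, rfl⟩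

theorem Hat.HH_le (hπ : Ext π) (H : Hat π t) :
    HH t ≤ closure ((fun k => u t (cw (bs k))) '' {k | k < 10}) := by
  unfold HH
  rw [closure_le]
  rintro _ ⟨c, hc, rfl⟩
  obtain ⟨i, hi, rfl⟩ := exists_cw c
  refine hexad_induction (Q := fun i => u t (cw i) ∈ closure ((fun k => u t (cw (bs k))) '' {k | k < 10}))
    ?_ ?_ i hi hc
  · intro k hk
    rcases Nat.lt_or_ge k 10 with h | h
    · exact subset_closure ⟨k, h, rfl⟩
    · have : k = 10 := by omega
      subst this
      have e : u t (cw (bs 10)) = 1 := mul_inv_cancel _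
      rw [e]
      exact one_mem _
  · intro i j k hi hj hk h
    show u t (cw (i ^^^ j ^^^ k)) ∈ _
    rw [cw_xor, cw_xor, ← H.u_mul hπ h]
    exact mul_mem (mul_mem hi hj) hk

theorem Hat.card_HH [Finite L] (hπ : Ext π) (H : Hat π t) : Nat.card (HH t) ≤ 1024 := by
  have h1 := Subgroup.card_le_of_le (H.HH_le hπ)
  have h2 := CoOne.card_closure_le (fun k => u t (cw (bs k))) 10
    (fun i j hi hj => H.u_comm (hex_bs i (by omega)) (hex_bs j (by omega)))
    (fun i hi => H.u_sq hπ (hex_bs i (by omega)))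
  exact le_trans h1 (le_trans h2 (by norm_num))

theorem Hat.map_u (H : Hat π t) {c : golayCode} (hc : Hex c) : π (u t c) = sg (c + c0) := by
  unfold u
  rw [map_mul, map_inv, H.map c hc, H.map c0 hex_c0, inv_eq_of_mul_eq_one_left (A_sq hex_c0), A_mul hc hex_c0]

/-- a test for membership in a span -/
def spC : List ℕ → ℕ → Bool
  | [], a => Nat.beq a 0
  | b :: l, a => spC l a || spC l (Nat.xor a b)

theorem sp_of_spC {l : List ℕ} : ∀ {a : ℕ}, spC l a = true → Sp l a := by
  induction l with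
  | nil => intro a h; exact Nat.eq_of_beq_eq_true h
  | cons b l ih =>
    intro a h
    rw [spC, Bool.or_eq_true] at h
    exact h.imp ih ih

/-- the differences of the base hexads -/
def L10 : List ℕ := (List.range 10).map fun k => enc (bs k ^^^ bs 10)

theorem L10_inE : L10.all inE = true := by decide +kernel

theorem B10_sp : B10.all (spC L10) = true := by decide +kernel

theorem B10_inE : B10.all inE = true := by decide +kernel

theorem Hat.E_le (H : Hat π t) : E ≤ (HH t).map π := by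
  have h1 : ∀ b ∈ L10, inE b = true ∧ ge b ∈ (HH t).map π := by
    intro b hb
    refine ⟨List.all_eq_true.1 L10_inE b hb, ?_⟩
    obtain ⟨k, hk, rfl⟩ := List.mem_map.1 hb
    have hk' : k < 10 := List.mem_range.1 hk
    have hx := hex_bs k (by omega)
    refine ⟨u t (cw (bs k)), mem_HH hx, ?_⟩
    rw [H.map_u hx]
    unfold c0
    rw [← cw_xor, sg_cw]
  have h2 : ∀ b ∈ B10, inE b = true ∧ ge b ∈ (HH t).map π := by
    intro b hb
    have hb' := List.all_eq_true.1 B10_inE b hb
    exact ⟨hb', KFacts.CoTwo.MPerf.mem_of_sp h1 hb' (sp_of_spC (List.all_eq_true.1 B10_sp b hb))⟩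
  rintro _ ⟨m, hm, rfl⟩
  exact KFacts.CoTwo.MPerf.mem_of_sp h2 hm (sp_B10 hm)

theorem Hat.map_HH_le (H : Hat π t) : (HH t).map π ≤ E := by
  rw [map_le_iff_le_comap]
  unfold HH
  rw [closure_le]
  rintro _ ⟨c, hc, rfl⟩
  show π (u t c) ∈ E
  rw [H.map_u hc]
  refine ge_mem (inE_mk ?_)
  have e : c + c0 = (c + allOne) + (c0 + allOne) := by
    apply Subtype.ext
    funext p
    show (c : GolayPt → ZMod 2) p + (c0 : GolayPt → ZMod 2) p = ((c : GolayPt → ZMod 2) p + 1) +
      ((c0 : GolayPt → ZMod 2) p + 1)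
    generalize (c : GolayPt → ZMod 2) p = x
    generalize (c0 : GolayPt → ZMod 2) p = y
    revert x y
    decide
  rw [e]
  exact (av_hex hc).add (av_hex hex_c0)

/-- The group of the lifts meets the kernel trivially. -/
theorem Hat.ker [Finite L] (hπ : Ext π) (H : Hat π t) {x : L} (hx : x ∈ HH t) (h1 : π x = 1) : x = 1 := by
  let f : HH t →* Spor.Co2 := π.comp (HH t).subtype
  have h2 : Nat.card f.ker * f.ker.index = Nat.card (HH t) := card_mul_index _
  rw [index_ker] at h2
  have h3 : f.range = (HH t).map π := by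
    rw [MonoidHom.range_eq_map, ← map_map, ← MonoidHom.range_eq_map, range_subtype]
  have h4 : 1024 ≤ Nat.card f.range := by
    have e : Nat.card E = 1024 := by rw [Cfsg.Agent.Co2Type.TCard.card_E]; norm_num
    rw [← e, h3]
    exact Subgroup.card_le_of_le H.E_le
  have h5 := H.card_HH hπ
  have h6 : Nat.card f.ker = 1 := by
    have hpos : 0 < Nat.card f.ker := Nat.card_pos
    by_contra hcon
    have h7 : 2 ≤ Nat.card f.ker := by omega
    have : 2 * 1024 ≤ Nat.card f.ker * Nat.card f.range := Nat.mul_le_mul h7 h4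
    omega
  have h8 : f.ker = ⊥ := Subgroup.card_eq_one.1 h6
  have h9 : (⟨x, hx⟩ : HH t) ∈ f.ker := h1
  rw [h8, Subgroup.mem_bot] at h9
  exact congrArg Subtype.val h9

theorem Hat.normal (H : Hat π t) {σ : M24} (hσ : Pr σ) {x h : L} (hx : toCo0 (π x) = permCo0 σ)
    (hh : h ∈ HH t) : x * h * x⁻¹ ∈ HH t := by
  have h1 : HH t ≤ (HH t).comap (MulAut.conj x).toMonoidHom := by
    conv_lhs => unfold HH
    rw [closure_le]
    rintro _ ⟨c, hc, rfl⟩
    show x * (t c * (t c0)⁻¹) * x⁻¹ ∈ HH t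
    have e : x * (t c * (t c0)⁻¹) * x⁻¹ = u t (wordPerm σ c) * (u t (wordPerm σ c0))⁻¹ := by
      calc x * (t c * (t c0)⁻¹) * x⁻¹ = (x * t c * x⁻¹) * (x * t c0 * x⁻¹)⁻¹ := by group
        _ = t (wordPerm σ c) * (t (wordPerm σ c0))⁻¹ := by rw [H.perm hσ hx hc, H.perm hσ hx hex_c0]
        _ = _ := by unfold u; group
    rw [e]
    exact mul_mem (mem_HH (hσ.hex hc)) (inv_mem (mem_HH (hσ.hex hex_c0)))
  exact h1 hh

/-- Existence of the lifts. -/
theorem exists_hat (hπ : Ext π) : ∃ t : golayCode → L, Hat π t := by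
  obtain ⟨a, ha⟩ := hπ.surj (ge mz)
  have hC : centralizer ({π a} : Set Spor.Co2) ≤ ⁅centralizer ({π a} : Set Spor.Co2), centralizer ({π a} : Set Spor.Co2)⁆ := by
    rw [ha]
    exact le_of_eq (KFacts.CoTwo.Perf.commutator_P).symm
  have hcom : ∀ g, π g * π a = π a * π g → g * a = a * g := fun g hg => commute_of_perfect hπ a hC hg
  have hcj : ∀ c, Hex c → IsConj (π a) (A c) := by
    intro c hc
    rw [ha]
    exact isConj_A hc
  refine ⟨fun c => lf π a (A c), ⟨fun c hc => map_lf hπ.surj hcom (hcj c hc), fun x c d hc hd h => ?_,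
    fun c d hc hd => ?_⟩⟩
  · show x * lf π a (A c) * x⁻¹ = lf π a (A d)
    rw [← lf_conj hπ.surj hcom (hcj c hc), h]
  · obtain ⟨g, hg⟩ := isConj_iff.1 ((hcj c hc).symm.trans (hcj d hd))
    obtain ⟨x, rfl⟩ := hπ.surj g
    exact ⟨x, hg⟩

end Cfsg.Agent.KFacts.MulY.CoTwoHat
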