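import Cfsg.Agent.KFacts.MulY.CoTwo
import Cfsg.Agent.KFacts.MulSpor.McLLy

/-!
# `Co2` has no perfect double cover (helper249): the row
-/

set_option autoImplicit false

namespace Cfsg.Agent.KFacts.MulY.CoTwoRow

open Cfsg Cfsg.Agent.KFacts.MulDef

theorem noDouble : NoDouble Spor.Co2 :=
  CoTwo.noDouble (KFacts.MulSpor.McLLy.mcl ⟨MulEquiv.refl _⟩)

theorem co2 {X : Type*} [Group X] (h : Spor.IsoCo2 X) : NoDouble X := by
  obtain ⟨e⟩ := h
  exact noDouble.congr e.symm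

end Cfsg.Agent.KFacts.MulY.CoTwoRow
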