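import Cfsg.Agent.KFacts.MulY.Tree
import Cfsg.Agent.Bimonster.Certs2
import Cfsg.Agent.Bimonster.Fi

/-!
# The letters of `Fi23` in the tree `Y555`: consequences of the Coxeter relations on them

`S23 = {0, 1, 2, 3, 4, 6, 7, 11, 12, 13}` (`d`; `e f g j`; `h i`; `c b a`).
-/

set_option autoImplicit false
set_option linter.unusedVariables false
set_option linter.constructorNameAsVariable false
set_option linter.unusedSimpArgs false

namespace Cfsg.Agent.KFacts.MulY.FiTree

open Cfsg Cfsg.Spor Cfsg.Agent.Bimonster Cfsg.Agent.Bimonster.Tits Cfsg.Agent.KFacts.MulY.Tree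

/-- the letters of `Fi23` -/
def S23 (i : ℕ) : Bool := [0, 1, 2, 3, 4, 6, 7, 11, 12, 13].contains i

theorem S23_of_mem {w : List ℕ} (h : (w.all fun i => S23 i) = true) : ∀ i ∈ w, S23 i = true := by
  rw [List.all_eq_true] at h; exact h

theorem okS23 : okS S23 := by
  constructor
  · intro i hi
    unfold S23 at hi
    rw [List.contains_iff_mem] at hi
    simp only [List.mem_cons, List.not_mem_nil, or_false] at hi
    omega
  · intro i h0 hi
    unfold S23 at hi
    rw [List.contains_iff_mem] at hi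
    simp only [List.mem_cons, List.not_mem_nil, or_false] at hi
    rcases hi with rfl | rfl | rfl | rfl | rfl | rfl | rfl | rfl | rfl | rfl <;>
      first | exact absurd h0 (by decide) | decide

/-- the word `a b c d e f h` -/
def e7W : List ℕ := [13, 12, 11, 0, 1, 2, 6]

theorem cx_okS : run (rulesS S23) cxC 0 (rep 18 f3a) = some (63, []) := by decide +kernel

theorem sp_okS : run (rulesS S23) spC 0 (rep 10 spW ++ spG ++ rep 10 spW ++ spG.reverse ++ spH ++
    rep 10 spW ++ spH.reverse) = some (143, []) := by decide +kernel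

theorem fiA_okS : nilS S23 fiAC (rep 9 f3a ++ (rep 9 e7W).reverse) = true := by decide +kernel

section

variable {G : Type*} [Group G]

theorem cx_good {x : ℕ → G} {z : G} (h : ArtS S23 x z) : (ev x f3a ^ 9) ^ 2 = z ^ 63 := by
  have := eq_of_run h.valid cx_okS
  rw [ev_rep] at this
  rw [← pow_mul]
  exact this

theorem sp_good {x : ℕ → G} (h : CoxS S23 x) :
    ∃ g k : G, ev x spW ^ 10 * (g * ev x spW ^ 10 * g⁻¹) * (k * ev x spW ^ 10 * k⁻¹) = 1 := by
  refine ⟨ev x spG, ev x spH, ?_⟩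
  have h1 := eq_of_run h.valid sp_okS
  rw [one_pow] at h1
  rw [ev_append, ev_append, ev_append, ev_append, ev_append, ev_append, ev_rep,
    ev_reverse (fun i hi => h.sq i (S23_of_mem (w := spG) (by decide) i hi)),
    ev_reverse (fun i hi => h.sq i (S23_of_mem (w := spH) (by decide) i hi))] at h1
  simpa only [mul_assoc] using h1

theorem fiA_good {x : ℕ → G} (h : CoxS S23 x) : ev x f3a ^ 9 = ev x e7W ^ 9 := by
  rw [← ev_rep, ← ev_rep]
  exact eq_of_nilS h (S23_of_mem (by decide)) fiA_okS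

/-- the Coxeter part of `FiRel` -/
theorem fi_cox {v : ℕ → G} (h : CoxS S23 v) :
    ∀ i j : Fi23.Gen, (v (fiIdx i) * v (fiIdx j)) ^ coxLabel Fi23.edges i j = 1 := by
  have key : ∀ i j : Fi23.Gen, (S23 (fiIdx i) = true ∧ S23 (fiIdx j) = true) ∧
      ((i = j ∧ coxLabel Fi23.edges i j = 1) ∨
        (adjB (fiIdx i) (fiIdx j) = true ∧ coxLabel Fi23.edges i j = 3) ∨
        (adjB (fiIdx i) (fiIdx j) = false ∧ coxLabel Fi23.edges i j = 2)) := by
    intro i j; cases i <;> cases j <;> decide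
  intro i j
  obtain ⟨⟨hi, hj⟩, hc⟩ := key i j
  rcases hc with ⟨rfl, hl⟩ | ⟨ha, hl⟩ | ⟨ha, hl⟩
  · rw [hl, pow_one, h.sq _ hi]
  · have hb := h.br _ _ hi hj ha
    have h1 := h.sq _ hi
    have h2 := h.sq _ hj
    rw [hl, pow_three']
    calc v (fiIdx i) * v (fiIdx j) * (v (fiIdx i) * v (fiIdx j)) * (v (fiIdx i) * v (fiIdx j))
        = (v (fiIdx i) * v (fiIdx j) * v (fiIdx i)) * v (fiIdx j) * v (fiIdx i) * v (fiIdx j) := by
          group
      _ = v (fiIdx j) * v (fiIdx i) * (v (fiIdx j) * v (fiIdx j)) * v (fiIdx i) * v (fiIdx j) := by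
          rw [hb]; group
      _ = v (fiIdx j) * (v (fiIdx i) * v (fiIdx i)) * v (fiIdx j) := by rw [h2]; group
      _ = 1 := by rw [h1, mul_one, h2]
  · have hb := h.cm _ _ hi hj ha
    have h1 := h.sq _ hi
    have h2 := h.sq _ hj
    rw [hl, pow_two]
    calc v (fiIdx i) * v (fiIdx j) * (v (fiIdx i) * v (fiIdx j))
        = v (fiIdx i) * (v (fiIdx j) * v (fiIdx i)) * v (fiIdx j) := by group
      _ = (v (fiIdx i) * v (fiIdx i)) * (v (fiIdx j) * v (fiIdx j)) := by rw [← hb]; group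
      _ = 1 := by rw [h1, h2, mul_one]

/-- the relations of `Fi23` -/
theorem firel {v : ℕ → G} (h : CoxS S23 v) (h3 : ev v e7W ^ 9 = 1) (hs : ev v spW ^ 10 = 1) : FiRel v := by
  refine ⟨fi_cox h, ?_, h3⟩
  have e1 : ev v spW = ev v [0, 1, 2, 0, 6, 7] * ev v [0, 11, 12] := by
    rw [← ev_append]; rfl
  have e2 : ev v [0, 11, 12, 0, 1, 2, 0, 6, 7] = ev v [0, 11, 12] * ev v [0, 1, 2, 0, 6, 7] := by
    rw [← ev_append]; rfl
  have e3 : ev v [0, 11, 12, 0, 1, 2, 0, 6, 7] =
      ev v [0, 11, 12] * ev v spW * (ev v [0, 11, 12])⁻¹ := by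
    rw [e1, e2]; group
  rw [e3, conj_pow, hs, mul_one, mul_inv_cancel]

/-- the homomorphism from the presented group -/
theorem fi_hom {v : ℕ → G} (h : FiRel v) :
    ∃ θ : Fi23 →* G, ∀ g : Fi23.Gen, θ (PresentedGroup.of g) = v (fiIdx g) := by
  have hr : ∀ r ∈ coxRelators Fi23.edges ∪ {r | r ∈ Fi23.extra},
      FreeGroup.lift (fun g => v (fiIdx g)) r = 1 := by
    intro r hr
    rcases hr with ⟨a, -, b, -, rfl⟩ | hr
    · rw [map_pow, map_mul, FreeGroup.lift_apply_of, FreeGroup.lift_apply_of]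
      exact h.cox a b
    · have hr' : r ∈ Fi23.extra := hr
      rw [Fi23.extra, List.mem_cons, List.mem_singleton] at hr'
      rcases hr' with rfl | rfl
      · have := h.spider
        rw [map_pow]
        simp only [map_mul, FreeGroup.lift_apply_of, Fi23.a, Fi23.b, Fi23.c, Fi23.d, Fi23.e,
          Fi23.f, Fi23.h, Fi23.i, fiIdx]
        simpa only [ev_cons, ev_nil, mul_one, mul_assoc] using this
      · have := h.e7
        rw [map_pow]
        simp only [map_mul, FreeGroup.lift_apply_of, Fi23.a, Fi23.b, Fi23.c, Fi23.d, Fi23.e,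
          Fi23.f, Fi23.h, Fi23.i, fiIdx]
        simpa only [ev_cons, ev_nil, mul_one, mul_assoc] using this
  exact ⟨PresentedGroup.toGroup hr, fun g => PresentedGroup.toGroup.of hr⟩

end

/-! ### The standard elements -/

theorem mem_nodes (x : Fi23.Gen) : x ∈ coxNodes Fi23.edges := by cases x <;> decide

theorem of_rel (g k : Fi23.Gen) :
    ((PresentedGroup.of g : Fi23) * PresentedGroup.of k) ^ coxLabel Fi23.edges g k = 1 := by
  have h : (FreeGroup.of g * FreeGroup.of k) ^ coxLabel Fi23.edges g k ∈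
      coxRelators Fi23.edges ∪ {r | r ∈ Fi23.extra} := Or.inl ⟨g, mem_nodes g, k, mem_nodes k, rfl⟩
  have := PresentedGroup.one_of_mem h
  rw [map_pow, map_mul] at this
  exact this

theorem fiW_sq (i : ℕ) : fiW i * fiW i = 1 := by
  have h := of_rel (fiGen i) (fiGen i)
  have hl : ∀ g : Fi23.Gen, coxLabel Fi23.edges g g = 1 := by intro g; cases g <;> decide
  rw [hl, pow_one] at h
  exact h

theorem inv_of_sq {G : Type*} [Group G] {a : G} (h : a * a = 1) : a⁻¹ = a := inv_eq_of_mul_eq_one_left h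

theorem fiW_cox : CoxS S23 fiW := by
  have key1 : ∀ i < 16, ∀ j < 16, S23 i = true → S23 j = true → adjB i j = true →
      coxLabel Fi23.edges (fiGen i) (fiGen j) = 3 := by decide
  have key2 : ∀ i < 16, ∀ j < 16, (S23 i && S23 j && !adjB i j && !Nat.beq i j) = true →
      coxLabel Fi23.edges (fiGen i) (fiGen j) = 2 := by decide
  have lt : ∀ i, S23 i = true → i < 16 := okS23.1
  refine ⟨fun i _ => fiW_sq i, fun i j hi hj hij => ?_, fun i j hi hj hij => ?_⟩
  · by_cases hne : i = j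
    · subst hne; rfl
    · have hb : Nat.beq i j = false := by
        rw [Bool.eq_false_iff]
        exact fun h => hne (Nat.eq_of_beq_eq_true h)
      have hl := key2 i (lt i hi) j (lt j hj) (by rw [hi, hj, hij, hb]; rfl)
      have h := of_rel (fiGen i) (fiGen j)
      rw [hl, pow_two] at h
      have h' : (fiW i * fiW j) * (fiW i * fiW j) = 1 := h
      rw [eq_inv_of_mul_eq_one_left h', mul_inv_rev, inv_of_sq (fiW_sq i), inv_of_sq (fiW_sq j)]
  · have hl := key1 i (lt i hi) j (lt j hj) hi hj hij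
    have h := of_rel (fiGen i) (fiGen j)
    rw [hl, pow_three'] at h
    have h' : (fiW i * fiW j * fiW i) * (fiW j * fiW i * fiW j) = 1 := by
      rw [← h]; simp only [mul_assoc]; rfl
    rw [eq_inv_of_mul_eq_one_left h', mul_inv_rev, mul_inv_rev, inv_of_sq (fiW_sq i),
      inv_of_sq (fiW_sq j), mul_assoc]

theorem of_extra {r : FreeGroup Fi23.Gen} (hr : r ∈ Fi23.extra) :
    PresentedGroup.mk (coxRelators Fi23.edges ∪ {r | r ∈ Fi23.extra}) r = 1 :=
  PresentedGroup.one_of_mem (Or.inr hr)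

theorem fiW_e7 : ev fiW e7W ^ 9 = 1 := by
  have h := of_extra (r := (Fi23.a * Fi23.b * Fi23.c * Fi23.d * Fi23.e * Fi23.f * Fi23.h) ^ 9)
    (List.mem_cons_of_mem _ List.mem_cons_self)
  rw [map_pow] at h
  simp only [map_mul, mul_assoc] at h
  simp only [e7W, ev_cons, ev_nil, mul_one]
  exact h

theorem fiW_sp' : ev fiW [0, 11, 12, 0, 1, 2, 0, 6, 7] ^ 10 = 1 := by
  have h := of_extra (r := (Fi23.d * Fi23.c * Fi23.b * Fi23.d * Fi23.e * Fi23.f * Fi23.d * Fi23.h * Fi23.i) ^ 10)
    List.mem_cons_self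
  rw [map_pow] at h
  simp only [map_mul, mul_assoc] at h
  simp only [ev_cons, ev_nil, mul_one]
  exact h

theorem fiW_sp : ev fiW spW ^ 10 = 1 := by
  have e1 : ev fiW spW = ev fiW [0, 1, 2, 0, 6, 7] * ev fiW [0, 11, 12] := by
    rw [← ev_append]; rfl
  have e2 : ev fiW [0, 11, 12, 0, 1, 2, 0, 6, 7] = ev fiW [0, 11, 12] * ev fiW [0, 1, 2, 0, 6, 7] := by
    rw [← ev_append]; rfl
  have e3 : ev fiW spW = (ev fiW [0, 11, 12])⁻¹ * ev fiW [0, 11, 12, 0, 1, 2, 0, 6, 7] *
      ((ev fiW [0, 11, 12])⁻¹)⁻¹ := by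
    rw [e1, e2]; group
  rw [e3, conj_pow, fiW_sp', mul_one, mul_inv_cancel]

end Cfsg.Agent.KFacts.MulY.FiTree
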