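import Cfsg.Agent.KFacts.MulY.OctadGen
import Cfsg.Agent.SporadicA.M24Frames
import Cfsg.Agent.CoOneType.CoOneE

/-!
# Transitivity of `M24` on the pairs of octads whose sum is an octad (helper249)
-/

set_option autoImplicit false
open Cfsg

namespace Cfsg.Agent.KFacts.MulY.GoodTrans

open Cfsg.Agent.SporadicA.GolayBase
open Cfsg.Agent.SporadicA.M24Frames
open Cfsg.Agent.SporadicA.Co0Mono
open Cfsg.Agent.CoOneType.SignFacts
open Cfsg.Agent.CoOneType.CoOneE
open Cfsg.Agent.KFacts.MulY.OctadGen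
open scoped Pointwise

theorem exists_frame {c d : golayCode} (h : Good c d) :
    ∃ a : Fin 7 → GolayPt, Function.Injective a ∧
      (∀ i : Fin 7, i < 6 → a i ∈ sup c) ∧ a 6 ∉ sup c ∧
      (∀ i : Fin 7, i < 4 → a i ∈ sup d) ∧ a 6 ∈ sup d := by
  classical
  have hadd := wt_add c d
  have h1 : (sup c ∩ sup d).card = 4 := by
    have := h.left; have := h.right; have := h.add; omega
  have h2 : (sup c \ sup d).card = 4 := by
    have h3 := Finset.card_sdiff_add_card_inter (sup c) (sup d)
    have : (sup c).card = 8 := h.left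
    omega
  have h3 : (sup d \ sup c).card = 4 := by
    have h3 := Finset.card_sdiff_add_card_inter (sup d) (sup c)
    rw [Finset.inter_comm] at h3
    have : (sup d).card = 8 := h.right
    omega
  let e1 := Finset.equivFinOfCardEq h1
  let e2 := Finset.equivFinOfCardEq h2
  let e3 := Finset.equivFinOfCardEq h3
  let a1 : Fin 4 → GolayPt := fun i => (e1.symm i : GolayPt)
  let a2 : Fin 4 → GolayPt := fun i => (e2.symm i : GolayPt)
  let a3 : Fin 4 → GolayPt := fun i => (e3.symm i : GolayPt)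
  have m1 : ∀ i, a1 i ∈ sup c ∧ a1 i ∈ sup d := fun i => Finset.mem_inter.1 (e1.symm i).2
  have m2 : ∀ i, a2 i ∈ sup c ∧ a2 i ∉ sup d := fun i => Finset.mem_sdiff.1 (e2.symm i).2
  have m3 : ∀ i, a3 i ∈ sup d ∧ a3 i ∉ sup c := fun i => Finset.mem_sdiff.1 (e3.symm i).2
  have i1 : ∀ i j, a1 i = a1 j → i = j := fun i j hij => e1.symm.injective (Subtype.ext hij)
  have i2 : ∀ i j, a2 i = a2 j → i = j := fun i j hij => e2.symm.injective (Subtype.ext hij)
  have i12 : ∀ i j, a1 i ≠ a2 j := fun i j hij => (m2 j).2 (hij ▸ (m1 i).2)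
  have i13 : ∀ i j, a1 i ≠ a3 j := fun i j hij => (m3 j).2 (hij ▸ (m1 i).1)
  have i23 : ∀ i j, a2 i ≠ a3 j := fun i j hij => (m3 j).2 (hij ▸ (m2 i).1)
  refine ⟨![a1 0, a1 1, a1 2, a1 3, a2 0, a2 1, a3 0], ?_, ?_, ?_, ?_, ?_⟩
  · intro i j hij
    fin_cases i <;> fin_cases j <;> first | rfl | (exfalso; first
      | exact absurd (i1 _ _ hij) (by decide)
      | exact absurd (i2 _ _ hij) (by decide)
      | exact i12 _ _ hij
      | exact i12 _ _ hij.symm
      | exact i13 _ _ hij
      | exact i13 _ _ hij.symm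
      | exact i23 _ _ hij
      | exact i23 _ _ hij.symm)
  · intro i hi
    fin_cases i
    · exact (m1 0).1
    · exact (m1 1).1
    · exact (m1 2).1
    · exact (m1 3).1
    · exact (m2 0).1
    · exact (m2 1).1
    · exact absurd hi (by decide)
  · exact (m3 0).2
  · intro i hi
    fin_cases i
    · exact (m1 0).2
    · exact (m1 1).2
    · exact (m1 2).2
    · exact (m1 3).2
    · exact absurd hi (by decide)
    · exact absurd hi (by decide)
    · exact absurd hi (by decide)
  · exact (m3 0).1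

theorem eq_of_five {g : Equiv.Perm GolayPt} (hg : g ∈ M24) {s t : Finset GolayPt} (hs : s ∈ octads)
    (ht : t ∈ octads) {a b : Fin 7 → GolayPt} (hb : Function.Injective b)
    (hab : ∀ i, g (a i) = b i) (I : Finset (Fin 7)) (hI : 5 ≤ I.card) (h1 : ∀ i ∈ I, a i ∈ s)
    (h2 : ∀ i ∈ I, b i ∈ t) : g • s = t := by
  classical
  apply octad_unique (smul_mem_octads hg hs) ht
  have h3 : I.image b ⊆ g • s ∩ t := by
    intro x hx
    obtain ⟨i, hi, rfl⟩ := Finset.mem_image.1 hx
    rw [Finset.mem_inter]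
    refine ⟨?_, h2 i hi⟩
    rw [← hab i]
    exact Finset.smul_mem_smul_finset (h1 i hi)
  refine le_trans hI ?_
  rw [← Finset.card_image_of_injective I hb]
  exact Finset.card_le_card h3

/-- `M24` is transitive on the good pairs. -/
theorem exists_perm {c d c' d' : golayCode} (h : Good c d) (h' : Good c' d') :
    ∃ σ : M24, wordPerm σ c = c' ∧ wordPerm σ d = d' := by
  obtain ⟨a, ha, ha1, ha2, ha3, ha4⟩ := exists_frame h
  obtain ⟨b, hb, hb1, hb2, hb3, hb4⟩ := exists_frame h'
  have oc : sup c ∈ octads := (sup_mem_octads c).2 h.left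
  have oc' : sup c' ∈ octads := (sup_mem_octads c').2 h'.left
  have od : sup d ∈ octads := (sup_mem_octads d).2 h.right
  have od' : sup d' ∈ octads := (sup_mem_octads d').2 h'.right
  obtain ⟨g, ⟨hg, hgab⟩, -⟩ := exists_unique_map a b ⟨ha, sup c, oc, ha1, ha2⟩
    ⟨hb, sup c', oc', hb1, hb2⟩
  refine ⟨⟨g, hg⟩, ?_, ?_⟩
  · apply sup_inj
    rw [sup_wordPerm]
    exact eq_of_five hg oc oc' hb hgab (Finset.univ.filter (· < 6)) (by decide)
      (fun i hi => ha1 i (Finset.mem_filter.1 hi).2) (fun i hi => hb1 i (Finset.mem_filter.1 hi).2)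
  · apply sup_inj
    rw [sup_wordPerm]
    refine eq_of_five hg od od' hb hgab (Finset.univ.filter (fun i => i < 4 ∨ i = 6)) (by decide)
      (fun i hi => ?_) (fun i hi => ?_)
    · rcases (Finset.mem_filter.1 hi).2 with h1 | rfl
      · exact ha3 i h1
      · exact ha4
    · rcases (Finset.mem_filter.1 hi).2 with h1 | rfl
      · exact hb3 i h1
      · exact hb4

theorem wt_wordPerm (σ : M24) (c : golayCode) : wt (wordPerm σ c) = wt c := by
  unfold wt
  rw [sup_wordPerm, Finset.card_smul_finset]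

theorem wordPerm_add (σ : M24) (c d : golayCode) : wordPerm σ (c + d) = wordPerm σ c + wordPerm σ d := rfl

theorem Good.perm {c d : golayCode} (h : Good c d) (σ : M24) : Good (wordPerm σ c) (wordPerm σ d) where
  left := by rw [wt_wordPerm]; exact h.left
  right := by rw [wt_wordPerm]; exact h.right
  add := by rw [← wordPerm_add, wt_wordPerm]; exact h.add

/-- A good pair. -/
theorem good_base : Good (cw 1) (cw 2) where
  left := wt_basis 0 (by norm_num)
  right := wt_basis 1 (by norm_num)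
  add := by
    rw [← cw_xor, wt_cw]
    decide +kernel

/-- Every dodecad is a sum of two octads. -/
theorem exists_octads_add {c : golayCode} (hc : wt c = 12) :
    ∃ a b : golayCode, wt a = 8 ∧ wt b = 8 ∧ c = a + b := by
  have h1 : wt (cw 1 + cw 12) = 12 := by
    rw [← cw_xor, wt_cw]
    decide +kernel
  have h2 : wt (cw 12) = 8 := by
    rw [wt_cw]
    decide +kernel
  obtain ⟨σ, hσ⟩ := Cfsg.Agent.S0368.result _ _ ((sup_mem_dodecads _).2 h1) ((sup_mem_dodecads c).2 hc)
  rw [← sup_wordPerm] at hσ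
  refine ⟨wordPerm σ (cw 1), wordPerm σ (cw 12), ?_, ?_, ?_⟩
  · rw [wt_wordPerm]; exact wt_basis 0 (by norm_num)
  · rw [wt_wordPerm]; exact h2
  · rw [← wordPerm_add]
    exact (sup_inj hσ).symm

end Cfsg.Agent.KFacts.MulY.GoodTrans
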