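import Cfsg.Agent.KFacts.MulY.HexadGen
import Cfsg.Agent.KFacts.MulY.GoodTrans

/-!
# Transitivity of `M22` on the triples of hexads whose sum is a hexad (helper249)
-/

set_option autoImplicit false
open Cfsg

namespace Cfsg.Agent.KFacts.MulY.HexTrans

open Cfsg.Agent.SporadicA.GolayBase
open Cfsg.Agent.SporadicA.M24Frames
open Cfsg.Agent.SporadicA.Co0Mono
open Cfsg.Agent.CoOneType.SignFacts
open Cfsg.Agent.CoOneType.CoOneE
open Cfsg.Agent.KFacts.MulY.OctadGen
open Cfsg.Agent.KFacts.MulY.GoodTrans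
open Cfsg.Agent.KFacts.MulY.HexadGen
open scoped Pointwise

theorem exists_pair {s : Finset GolayPt} (h : s.card = 2) : ∃ x y, x ∈ s ∧ y ∈ s ∧ x ≠ y := by
  obtain ⟨x, y, hxy, rfl⟩ := Finset.card_eq_two.1 h
  exact ⟨x, y, by simp, by simp, hxy⟩

theorem exists_frame {a b d : golayCode} (h : Quad a b d) :
    ∃ f : Fin 7 → GolayPt, Function.Injective f ∧ f 0 = none ∧ f 1 = some 0 ∧
      (∀ i : Fin 7, i < 6 → f i ∈ sup a) ∧ f 6 ∉ sup a ∧
      (∀ i : Fin 7, i < 4 ∨ i = 6 → f i ∈ sup b) ∧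
      (∀ i : Fin 7, i < 2 ∨ 3 < i → f i ∈ sup d) := by
  classical
  have e1 := wt_add a b
  have e2 := wt_add a d
  have e3 := wt_add b d
  have e4 := wt_add (a + b) d
  have w1 := h.h1.wt
  have w2 := h.h2.wt
  have w3 := h.h3.wt
  have w4 := h.h.wt
  have w12 := h.h12
  have w13 := h.h13
  have w23 := h.h23
  have c12 : (sup a ∩ sup b).card = 4 := by omega
  have c13 : (sup a ∩ sup d).card = 4 := by omega
  have c23 : (sup b ∩ sup d).card = 4 := by omega
  have c4 : (sup (a + b) ∩ sup d).card = 4 := by omega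
  -- the triple intersection
  have t1 : (sup (a + b) ∩ sup d) = ((sup a ∩ sup d) \ sup b) ∪ ((sup b ∩ sup d) \ sup a) := by
    ext i
    simp only [Finset.mem_inter, Finset.mem_union, Finset.mem_sdiff, mem_sup]
    have ha : ∀ x y z : ZMod 2, (x + y = 1 ∧ z = 1) ↔ (x = 1 ∧ z = 1) ∧ ¬ y = 1 ∨ (y = 1 ∧ z = 1) ∧ ¬ x = 1 := by
      decide
    exact ha _ _ _
  have t2 : Disjoint ((sup a ∩ sup d) \ sup b) ((sup b ∩ sup d) \ sup a) := by
    rw [Finset.disjoint_left]
    intro i hi hj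
    exact (Finset.mem_sdiff.1 hj).2 (Finset.mem_inter.1 (Finset.mem_sdiff.1 hi).1).1
  rw [t1, Finset.card_union_of_disjoint t2] at c4
  have s1 := Finset.card_sdiff_add_card_inter (sup a ∩ sup d) (sup b)
  have s2 := Finset.card_sdiff_add_card_inter (sup b ∩ sup d) (sup a)
  have s3 := Finset.card_sdiff_add_card_inter (sup a ∩ sup b) (sup d)
  have q1 : (sup a ∩ sup d) ∩ sup b = (sup a ∩ sup b) ∩ sup d := by
    ext i; simp only [Finset.mem_inter]; tauto
  have q2 : (sup b ∩ sup d) ∩ sup a = (sup a ∩ sup b) ∩ sup d := by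
    ext i; simp only [Finset.mem_inter]; tauto
  rw [q1] at s1
  rw [q2] at s2
  have r1 : ((sup a ∩ sup b) \ sup d).card = 2 := by omega
  have r2 : ((sup a ∩ sup d) \ sup b).card = 2 := by omega
  have r3 : ((sup b ∩ sup d) \ sup a).card = 2 := by omega
  obtain ⟨p, q, hp, hq, hpq⟩ := exists_pair r1
  obtain ⟨t, u, ht, hu, htu⟩ := exists_pair r2
  obtain ⟨r, -, hr, -, -⟩ := exists_pair r3
  simp only [Finset.mem_inter, Finset.mem_sdiff] at hp hq ht hu hr
  have na : none ∈ sup a := (mem_sup _ _).2 h.h1.none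
  have nb : none ∈ sup b := (mem_sup _ _).2 h.h2.none
  have nd : none ∈ sup d := (mem_sup _ _).2 h.h3.none
  have za : some 0 ∈ sup a := (mem_sup _ _).2 h.h1.zero
  have zb : some 0 ∈ sup b := (mem_sup _ _).2 h.h2.zero
  have zd : some 0 ∈ sup d := (mem_sup _ _).2 h.h3.zero
  have n1 : ∀ x y : GolayPt, x ∈ sup a → y ∉ sup a → x ≠ y := fun x y h1 h2 h3 => h2 (h3 ▸ h1)
  have n2 : ∀ x y : GolayPt, x ∈ sup b → y ∉ sup b → x ≠ y := fun x y h1 h2 h3 => h2 (h3 ▸ h1)
  have n3 : ∀ x y : GolayPt, x ∈ sup d → y ∉ sup d → x ≠ y := fun x y h1 h2 h3 => h2 (h3 ▸ h1)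
  have hnz : (none : GolayPt) ≠ some 0 := by decide
  refine ⟨![none, some 0, p, q, t, u, r], ?_, rfl, rfl, ?_, hr.2, ?_, ?_⟩
  · have hnd : [none, some 0, p, q, t, u, r].Nodup := by
      simp only [List.nodup_cons, List.mem_cons, List.not_mem_nil, or_false, not_or, List.nodup_nil, and_true,
        not_false_eq_true]
      exact ⟨⟨hnz, n3 _ _ nd hp.2, n3 _ _ nd hq.2, n2 _ _ nb ht.2, n2 _ _ nb hu.2, n1 _ _ na hr.2⟩,
        ⟨n3 _ _ zd hp.2, n3 _ _ zd hq.2, n2 _ _ zb ht.2, n2 _ _ zb hu.2, n1 _ _ za hr.2⟩,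
        ⟨hpq, n2 _ _ hp.1.2 ht.2, n2 _ _ hp.1.2 hu.2, n1 _ _ hp.1.1 hr.2⟩,
        ⟨n2 _ _ hq.1.2 ht.2, n2 _ _ hq.1.2 hu.2, n1 _ _ hq.1.1 hr.2⟩,
        ⟨htu, n1 _ _ ht.1.1 hr.2⟩, n1 _ _ hu.1.1 hr.2⟩
    have := List.nodup_iff_injective_get.1 hnd
    intro i j hij
    apply this
    fin_cases i <;> fin_cases j <;> first | rfl | exact hij
  · intro i hi
    fin_cases i
    · exact na
    · exact za
    · exact hp.1.1
    · exact hq.1.1
    · exact ht.1.1
    · exact hu.1.1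
    · exact absurd hi (by decide)
  · intro i hi
    fin_cases i
    · exact nb
    · exact zb
    · exact hp.1.2
    · exact hq.1.2
    · exact absurd hi (by decide)
    · exact absurd hi (by decide)
    · exact hr.1.1
  · intro i hi
    fin_cases i
    · exact nd
    · exact zd
    · exact absurd hi (by decide)
    · exact absurd hi (by decide)
    · exact ht.1.2
    · exact hu.1.2
    · exact hr.1.2

/-- The elements of `M24` fixing the two points are transitive on the quadruples. -/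
theorem exists_perm {a b d a' b' d' : golayCode} (h : Quad a b d) (h' : Quad a' b' d') :
    ∃ σ : M24, (σ : Equiv.Perm GolayPt) none = none ∧ (σ : Equiv.Perm GolayPt) (some 0) = some 0 ∧
      wordPerm σ a = a' ∧ wordPerm σ b = b' ∧ wordPerm σ d = d' := by
  obtain ⟨f, hf, hf0, hf1, ha, ha6, hb, hd⟩ := exists_frame h
  obtain ⟨f', hf', hf0', hf1', ha', ha6', hb', hd'⟩ := exists_frame h'
  have oa : sup a ∈ octads := (sup_mem_octads _).2 h.h1.wt
  have ob : sup b ∈ octads := (sup_mem_octads _).2 h.h2.wt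
  have od : sup d ∈ octads := (sup_mem_octads _).2 h.h3.wt
  have oa' : sup a' ∈ octads := (sup_mem_octads _).2 h'.h1.wt
  have ob' : sup b' ∈ octads := (sup_mem_octads _).2 h'.h2.wt
  have od' : sup d' ∈ octads := (sup_mem_octads _).2 h'.h3.wt
  obtain ⟨g, ⟨hg, hgab⟩, -⟩ := exists_unique_map f f' ⟨hf, sup a, oa, ha, ha6⟩
    ⟨hf', sup a', oa', ha', ha6'⟩
  refine ⟨⟨g, hg⟩, ?_, ?_, ?_, ?_, ?_⟩
  · show g none = none
    rw [← hf0, hgab, hf0', hf0]
  · show g (some 0) = some 0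
    rw [← hf1, hgab, hf1', hf1]
  · apply sup_inj
    rw [sup_wordPerm]
    exact eq_of_five hg oa oa' hf' hgab (Finset.univ.filter (· < 6)) (by decide)
      (fun i hi => ha i (Finset.mem_filter.1 hi).2) (fun i hi => ha' i (Finset.mem_filter.1 hi).2)
  · apply sup_inj
    rw [sup_wordPerm]
    exact eq_of_five hg ob ob' hf' hgab (Finset.univ.filter (fun i => i < 4 ∨ i = 6)) (by decide)
      (fun i hi => hb i (Finset.mem_filter.1 hi).2) (fun i hi => hb' i (Finset.mem_filter.1 hi).2)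
  · apply sup_inj
    rw [sup_wordPerm]
    exact eq_of_five hg od od' hf' hgab (Finset.univ.filter (fun i => i < 2 ∨ 3 < i)) (by decide)
      (fun i hi => hd i (Finset.mem_filter.1 hi).2) (fun i hi => hd' i (Finset.mem_filter.1 hi).2)

end Cfsg.Agent.KFacts.MulY.HexTrans
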