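import Cfsg.Agent.KFacts.MulY.OctadGen
import Cfsg.Agent.KFacts.CoTwo.MPerf

/-!
# Generation of the hexads (octads through two points) by threefold sums (helper249)

`hexad_induction`: a property of code words (given by their indices) that holds for the eleven base hexads and passes
from three hexads to their sum, if the sums of two of them are octads and their sum is a hexad, holds for all hexads.
-/

set_option autoImplicit false
set_option Elab.async false
open Cfsg

namespace Cfsg.Agent.KFacts.MulY.HexadGen

open Cfsg.Agent.SporadicA.GolayBase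
open Cfsg.Agent.CoOneType.SignFacts
open Cfsg.Agent.KFacts.MulY.OctadGen

/-- Hexads: octads through the two points. -/
structure Hex (c : golayCode) : Prop where
  wt : wt c = 8
  none : (c : GolayPt → ZMod 2) none = 1
  zero : (c : GolayPt → ZMod 2) (some 0) = 1

/-- The check for hexads. -/
def hexB (i : ℕ) : Bool := Nat.beq (popcount (enc i)) 8 && (enc i).testBit 23 && (enc i).testBit 0

theorem cw_apply (i : ℕ) (p : GolayPt) : (cw i : GolayPt → ZMod 2) p = if (enc i).testBit (idx p) then 1 else 0 := rfl

theorem hex_cw {i : ℕ} : Hex (cw i) ↔ hexB i = true := by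
  unfold hexB
  rw [Bool.and_eq_true, Bool.and_eq_true]
  have e1 : (cw i : GolayPt → ZMod 2) none = if (enc i).testBit 23 then 1 else 0 := rfl
  have e2 : (cw i : GolayPt → ZMod 2) (some 0) = if (enc i).testBit 0 then 1 else 0 := rfl
  constructor
  · rintro ⟨h1, h2, h3⟩
    rw [wt_cw] at h1
    rw [e1] at h2
    rw [e2] at h3
    refine ⟨⟨?_, ?_⟩, ?_⟩
    · rw [h1]; rfl
    · by_contra hc
      rw [if_neg hc] at h2
      exact absurd h2 (by decide)
    · by_contra hc
      rw [if_neg hc] at h3
      exact absurd h3 (by decide)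
  · rintro ⟨⟨h1, h2⟩, h3⟩
    refine ⟨?_, ?_, ?_⟩
    · rw [wt_cw]; exact Nat.eq_of_beq_eq_true h1
    · rw [e1, if_pos h2]
    · rw [e2, if_pos h3]

/-- Triples of hexads whose sum is a hexad. -/
structure Quad (a b d : golayCode) : Prop where
  h1 : Hex a
  h2 : Hex b
  h3 : Hex d
  h12 : wt (a + b) = 8
  h13 : wt (a + d) = 8
  h23 : wt (b + d) = 8
  h : Hex (a + b + d)

/-- The check for octads. -/
def octB (i : ℕ) : Bool := Nat.beq (popcount (enc i)) 8

/-- The check for quadruples. -/
def quadB (i j k : ℕ) : Bool :=
  hexB i && hexB j && hexB k && octB (i ^^^ j) && octB (i ^^^ k) && octB (j ^^^ k) && hexB (i ^^^ j ^^^ k)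

theorem quad_cw {i j k : ℕ} (h : quadB i j k = true) : Quad (cw i) (cw j) (cw k) := by
  unfold quadB at h
  simp only [Bool.and_eq_true] at h
  obtain ⟨⟨⟨⟨⟨⟨h1, h2⟩, h3⟩, h4⟩, h5⟩, h6⟩, h7⟩ := h
  refine ⟨hex_cw.2 h1, hex_cw.2 h2, hex_cw.2 h3, ?_, ?_, ?_, ?_⟩
  · rw [← cw_xor, wt_cw]; exact Nat.eq_of_beq_eq_true h4
  · rw [← cw_xor, wt_cw]; exact Nat.eq_of_beq_eq_true h5
  · rw [← cw_xor, wt_cw]; exact Nat.eq_of_beq_eq_true h6
  · rw [← cw_xor, ← cw_xor]; exact hex_cw.2 h7

/-- The check of a step. -/
def chk (S i j k : ℕ) : Bool := S.testBit i && S.testBit j && S.testBit k && quadB i j k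

/-- The set of the indices reached. -/
def go : List (ℕ × ℕ × ℕ) → ℕ → ℕ
  | [], S => S
  | (i, j, k) :: l, S => bif chk S i j k then go l (S ||| (1 <<< (i ^^^ j ^^^ k))) else 0

theorem go_spec {Q : ℕ → Prop}
    (hQ : ∀ i j k, Q i → Q j → Q k → Quad (cw i) (cw j) (cw k) → Q (i ^^^ j ^^^ k)) :
    ∀ (l : List (ℕ × ℕ × ℕ)) (S : ℕ), (∀ i, S.testBit i = true → Q i) →
      ∀ i, (go l S).testBit i = true → Q i := by
  intro l
  induction l with
  | nil => exact fun S hS i hi => hS i hi
  | cons p l ih =>
    obtain ⟨a, b, c⟩ := p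
    intro S hS i hi
    rw [go] at hi
    cases hc : chk S a b c with
    | false =>
      rw [hc, cond_false, Nat.zero_testBit] at hi
      exact absurd hi (by decide)
    | true =>
      rw [hc, cond_true] at hi
      unfold chk at hc
      simp only [Bool.and_eq_true] at hc
      obtain ⟨⟨⟨h1, h2⟩, h3⟩, h4⟩ := hc
      exact ih _ (fun k hk => or_spec hS (hQ a b c (hS a h1) (hS b h2) (hS c h3) (quad_cw h4)) k hk) i hi

/-- The steps. -/
def steps : List (ℕ × ℕ × ℕ) := [
  (595, 2113, 2577), (1059, 2113, 2345), (11, 595, 2577), (11, 1059, 2345), (11, 1059, 1193), (11, 37, 1059),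
  (11, 37, 2345), (11, 265, 2311), (11, 131, 265), (11, 131, 1193), (11, 131, 2053), (581, 595, 2311), (581,
  2113, 2577), (581, 2113, 2311), (581, 1355, 2311), (581, 2121, 2189), (581, 2121, 2321), (581, 2121, 3593),
  (581, 1037, 1057), (581, 2053, 2113), (581, 2053, 2577), (581, 2053, 2121), (581, 1057, 2577), (581, 2189,
  2577), (581, 2189, 3593), (37, 1059, 1217), (37, 581, 1057), (37, 581, 641), (37, 581, 617), (37, 265,
  1193), (37, 265, 797), (37, 1193, 2189), (37, 1193, 1217), (37, 2121, 2345), (37, 2121, 3189), (37, 129,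
  2053), (37, 129, 385), (37, 129, 513), (37, 129, 199), (37, 1037, 1049), (37, 385, 677), (37, 641, 1413),
  (37, 641, 2209), (37, 641, 677), (37, 1029, 3073), (37, 1029, 1049), (37, 617, 797), (37, 513, 1059), (37,
  81, 225), (37, 81, 99), (37, 1217, 3189), (37, 1217, 1413), (265, 581, 2189), (265, 2577, 3593), (265, 1355,
  3073), (265, 2121, 3329), (265, 771, 2577), (265, 797, 1543), (265, 513, 641), (265, 1413, 1543), (265, 561,
  651), (265, 2081, 2311), (131, 595, 1089), (131, 1193, 3593), (131, 1057, 2081), (131, 641, 769)]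

/-- The base hexads. -/
def bs (k : ℕ) : ℕ := [595, 1059, 2345, 11, 2113, 581, 37, 265, 131, 1193, 2577].getD k 0

/-- The base hexads. -/
def start : ℕ :=
  (((((((((((0 ||| 1 <<< 595) ||| 1 <<< 1059) ||| 1 <<< 2345) ||| 1 <<< 11) ||| 1 <<< 2113) ||| 1 <<< 581) ||| 1 <<< 37) ||| 1 <<< 265) ||| 1 <<< 131) ||| 1 <<< 1193) ||| 1 <<< 2577)

/-- The set of the indices of the hexads. -/
def hexSet : ℕ :=
  39881769643296449927428458215377202500794304405783606385147535857687086137929604544056455662532083004618354125509678708218046469473001088634945231007944093262295408111753358277288670465019792538463933790061805569461603005309109743640027794196318840642339044434409544158573944322073194085090311004202147688017574006003003158493014481407139089592060535541709984878955258870170142063236307106811916250639193545333296975599983430624514351759876147957395991376086054303071466942761222474102951856624127204265552548166331872539867925611200515167031187160386505503426716023246731554151582962993367032282274002653954315288717835465988757187176816271288442156879192667132998232116222111873520512927593761128147378699997276345052819294634880878630698715464465912817346663689675553673006538464693608427732093543420013431541055929184143175251162067063016733842693064544580699175215897111026930465402264514240080491670651148731221872470654271178918559189748011132359944951685707247644230515553619169043755026212598887015591910904915818113929689361780244188933193239358057421909025961868210997770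

theorem go_steps : Nat.beq (go steps start) hexSet = true := by decide +kernel

theorem hexSet_all : allR 12 0 (fun i => !(hexB i) || hexSet.testBit i) = true := by
  decide +kernel

/-- Induction over the hexads. -/
theorem hexad_induction {Q : ℕ → Prop} (h0 : ∀ k < 11, Q (bs k))
    (hQ : ∀ i j k, Q i → Q j → Q k → Quad (cw i) (cw j) (cw k) → Q (i ^^^ j ^^^ k)) (i : ℕ) (hi : i < 4096)
    (hw : Hex (cw i)) : Q i := by
  have h1 : hexSet.testBit i = true := by
    have h := allR_zero_spec hexSet_all i hi
    rw [hex_cw] at hw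
    rw [hw] at h
    simpa using h
  rw [← Nat.eq_of_beq_eq_true go_steps] at h1
  refine go_spec hQ steps start ?_ i h1
  unfold start
  have z : ∀ i, (0 : ℕ).testBit i = true → Q i := fun i hi => by
    rw [Nat.zero_testBit] at hi; exact absurd hi (by decide)
  exact or_spec (or_spec (or_spec (or_spec (or_spec (or_spec (or_spec (or_spec (or_spec (or_spec (or_spec z
    (h0 0 (by norm_num))) (h0 1 (by norm_num))) (h0 2 (by norm_num))) (h0 3 (by norm_num))) (h0 4 (by norm_num)))
    (h0 5 (by norm_num))) (h0 6 (by norm_num))) (h0 7 (by norm_num))) (h0 8 (by norm_num))) (h0 9 (by norm_num)))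
    (h0 10 (by norm_num))

theorem hex_bs : ∀ k < 11, Hex (cw (bs k)) := by
  intro k hk
  rw [hex_cw]
  have h : ∀ k < 11, hexB (bs k) = true := by decide +kernel
  exact h k hk

/-- Three pairs of hexads with the same sum. -/
theorem quad1 : Quad (cw 1) (cw 3) (cw 9) ∧ cw 1 + cw 3 + cw 9 = cw 11 :=
  ⟨quad_cw (by decide +kernel), by rw [← cw_xor, ← cw_xor]; exact congrArg cw (by decide)⟩

theorem quad2 : Quad (cw 9) (cw 11) (cw 21) ∧ cw 9 + cw 11 + cw 21 = cw 23 :=
  ⟨quad_cw (by decide +kernel), by rw [← cw_xor, ← cw_xor]; exact congrArg cw (by decide)⟩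

theorem quad3 : Quad (cw 1) (cw 3) (cw 21) ∧ cw 1 + cw 3 + cw 21 = cw 23 :=
  ⟨quad_cw (by decide +kernel), by rw [← cw_xor, ← cw_xor]; exact congrArg cw (by decide)⟩

end Cfsg.Agent.KFacts.MulY.HexadGen
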