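import Cfsg.Agent.KFacts.MulDef
import Cfsg.Agent.Bimonster.FiFacts
import Cfsg.Agent.Bimonster.Split
import Cfsg.Agent.Bimonster.Bim

/-!
# The Monster has no perfect double cover

* `noDouble_of_prel`: a group generated by elements with the relations `PRel` and universal for them has no perfect
  double cover (a perfect central extension has kernel of exponent three, `Bimonster.Ext.cube_eq_one`).
* `noDouble_PM`: the presented group `PM`.
* `noDouble_monster`: the presented Monster, if it is isomorphic to `PM` (`Bimonster.monster_equiv_PM`).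
-/

set_option autoImplicit false

namespace Cfsg.Agent.KFacts.MulY.M

open Cfsg Cfsg.Agent.Bimonster Cfsg.Agent.KFacts.MulDef

universe v

theorem noDouble_of_prel {P : Type v} [Group P] {x : ℕ → P} (hx : PRel x)
    (hgen : Subgroup.closure (nodes 14 x) = ⊤) (hU : Univ.{0} x) : NoDouble P := by
  intro L _ _ π c hd
  have hE : Ext π := by
    refine ⟨hd.surj, fun k hk g => ?_⟩
    rcases (hd.ker k).1 hk with rfl | rfl
    · rw [one_mul, mul_one]
    · exact hd.cen g
  have h3 := hE.cube_eq_one fi_facts hd.perf hx hgen hU c ((hd.ker c).2 (Or.inr rfl))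
  rw [pow_three', hd.sq, one_mul] at h3
  exact hd.ne h3

theorem noDouble_PM : NoDouble PM := noDouble_of_prel xM_prel xM_gen xM_univ

theorem noDouble_monster (h : Nonempty (Spor.Monster ≃* PM)) : NoDouble Spor.Monster := by
  obtain ⟨e⟩ := h
  exact noDouble_PM.congr e.symm

end Cfsg.Agent.KFacts.MulY.M
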