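import Cfsg.Agent.SporadicA.GolayBase
import Cfsg.Agent.CoOneType.SignFacts

/-!
# Generation of the octads of the Golay code from a basis by sums of octads (helper249)

`octad_induction`: a property of code words (given by their indices) that holds for the twelve basis octads and passes
from two octads to their sum, if the sum is an octad, holds for all octads.
-/

set_option autoImplicit false
set_option Elab.async false
open Cfsg

namespace Cfsg.Agent.KFacts.MulY.OctadGen

open Cfsg.Agent.SporadicA.GolayBase
open Cfsg.Agent.CoOneType.SignFacts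

/-- The code word of index `i`. -/
def cw (i : ℕ) : golayCode := ⟨word (enc i), enc_mem i⟩

theorem cw_xor (i j : ℕ) : cw (i ^^^ j) = cw i + cw j := by
  apply Subtype.ext
  show word (enc (i ^^^ j)) = word (enc i) + word (enc j)
  rw [enc_xor, word_xor]

theorem wt_cw (i : ℕ) : wt (cw i) = popcount (enc i) := by
  unfold wt sup
  show (support₂ (word (enc i))).card = _
  rw [support₂_word, card_fin]

theorem exists_cw (c : golayCode) : ∃ i < 4096, c = cw i := by
  refine ⟨maskW c % 4096, Nat.mod_lt _ (by norm_num), ?_⟩
  apply Subtype.ext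
  show (c : GolayPt → ZMod 2) = word (enc (maskW c % 4096))
  rw [enc_mod]
  have h := (mem_golayCode_iff (c : GolayPt → ZMod 2)).1 c.2
  rw [isCode_iff] at h
  rw [h, word_maskW]

/-- Pairs of octads whose sum is an octad. -/
structure Good (c d : golayCode) : Prop where
  left : wt c = 8
  right : wt d = 8
  add : wt (c + d) = 8

/-- The check of a step. -/
def chk (S i j : ℕ) : Bool :=
  S.testBit i && S.testBit j && Nat.beq (popcount (enc i)) 8 && Nat.beq (popcount (enc j)) 8 &&
    Nat.beq (popcount (enc (i ^^^ j))) 8

/-- The set of the indices reached. -/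
def go : List (ℕ × ℕ) → ℕ → ℕ
  | [], S => S
  | (i, j) :: l, S => bif chk S i j then go l (S ||| (1 <<< (i ^^^ j))) else 0

theorem or_spec {Q : ℕ → Prop} {S n : ℕ} (hS : ∀ i, S.testBit i = true → Q i) (hn : Q n) (i : ℕ)
    (hi : (S ||| (1 <<< n)).testBit i = true) : Q i := by
  rw [Nat.testBit_or, Bool.or_eq_true] at hi
  rcases hi with hi | hi
  · exact hS i hi
  · rw [Nat.one_shiftLeft, Nat.testBit_two_pow] at hi
    have : n = i := by simpa using hi
    exact this ▸ hn

theorem go_spec {Q : ℕ → Prop} (hQ : ∀ i j, Q i → Q j → Good (cw i) (cw j) → Q (i ^^^ j)) :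
    ∀ (l : List (ℕ × ℕ)) (S : ℕ), (∀ i, S.testBit i = true → Q i) →
      ∀ i, (go l S).testBit i = true → Q i := by
  intro l
  induction l with
  | nil => exact fun S hS i hi => hS i hi
  | cons p l ih =>
    obtain ⟨a, b⟩ := p
    intro S hS i hi
    rw [go] at hi
    cases hc : chk S a b with
    | false =>
      rw [hc, cond_false, Nat.zero_testBit] at hi
      exact absurd hi (by decide)
    | true =>
      rw [hc, cond_true] at hi
      unfold chk at hc
      simp only [Bool.and_eq_true] at hc
      obtain ⟨⟨⟨⟨h1, h2⟩, h3⟩, h4⟩, h5⟩ := hc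
      refine ih _ (fun k hk => or_spec hS (hQ a b (hS a h1) (hS b h2) ⟨?_, ?_, ?_⟩) k hk) i hi
      · rw [wt_cw]; exact Nat.eq_of_beq_eq_true h3
      · rw [wt_cw]; exact Nat.eq_of_beq_eq_true h4
      · rw [← cw_xor, wt_cw]; exact Nat.eq_of_beq_eq_true h5

/-- The steps. -/
def steps : List (ℕ × ℕ) :=
  [(2, 1), (4, 1), (4, 2), (8, 1), (8, 2), (8, 4), (16, 1), (16, 2), (16, 4), (16, 8), (32, 1), (32, 4), (32,
  8), (32, 16), (64, 1), (64, 2), (64, 4), (64, 8), (64, 32), (128, 1), (128, 2), (128, 4), (128, 8), (128,
  16), (128, 32), (128, 64), (256, 2), (256, 4), (256, 8), (256, 16), (256, 32), (256, 64), (256, 128), (512,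
  1), (512, 2), (512, 8), (512, 16), (512, 32), (512, 64), (512, 128), (512, 256), (1024, 1), (1024, 2),
  (1024, 4), (1024, 16), (1024, 32), (1024, 64), (1024, 128), (1024, 256), (1024, 512), (2048, 1), (2048, 2),
  (2048, 4), (2048, 8), (2048, 16), (2048, 32), (2048, 64), (2048, 256), (2048, 512), (2048, 1024), (3, 4),
  (3, 8), (3, 16), (3, 32), (3, 64), (3, 128), (3, 256), (3, 2048), (5, 16), (5, 32), (5, 128), (5, 256), (5,
  512), (5, 1024), (5, 2048), (6, 16), (6, 32), (6, 64), (6, 128), (6, 256), (6, 512), (6, 1024), (9, 16), (9,
  32), (9, 64), (9, 256), (9, 512), (9, 1024), (9, 2048), (9, 6), (10, 32), (10, 64), (10, 128), (10, 256),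
  (10, 512), (10, 1024), (10, 2048), (12, 16), (12, 32), (12, 64), (12, 128), (12, 256), (12, 512), (12,
  1024), (12, 2048), (17, 32), (17, 64), (17, 128), (17, 256), (17, 512), (17, 6), (18, 32), (18, 64), (18,
  128), (18, 512), (18, 1024), (18, 2048), (18, 12), (20, 64), (20, 128), (20, 256), (20, 512), (20, 2048),
  (24, 32), (24, 64), (24, 256), (24, 512), (24, 1024), (24, 2048), (33, 256), (33, 512), (33, 1024), (33,
  2048), (33, 24), (36, 64), (36, 128), (36, 512), (36, 1024), (36, 2048), (36, 10), (36, 18), (40, 64), (40,
  128), (40, 512), (40, 1024), (40, 18), (48, 64), (48, 128), (48, 256), (48, 512), (48, 1024), (65, 128),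
  (65, 256), (65, 512), (65, 1024), (65, 2048), (65, 10), (65, 12), (65, 20), (65, 36), (65, 48), (66, 32),
  (66, 256), (66, 1024), (66, 2048), (66, 24), (66, 33), (66, 48), (68, 128), (68, 256), (68, 512), (68,
  1024), (68, 40), (68, 48), (72, 128), (72, 1024), (72, 2048), (96, 128), (96, 256), (96, 512), (96, 2048),
  (129, 256), (129, 512), (129, 1024), (129, 2048), (129, 6), (129, 12), (129, 18), (129, 20), (129, 24),
  (129, 40), (129, 96), (130, 32), (130, 256), (130, 512), (130, 2048), (130, 20), (130, 24), (130, 33), (130,
  96), (132, 512), (132, 2048), (132, 40), (132, 72), (132, 96), (136, 256), (136, 512), (136, 1024), (136,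
  2048), (136, 96), (144, 64), (144, 256), (144, 1024), (144, 2048), (144, 66), (144, 72), (160, 256), (160,
  1024), (160, 2048), (192, 512), (192, 1024), (192, 2048), (258, 32), (258, 512), (258, 1024), (258, 17),
  (258, 24), (258, 33), (258, 36), (258, 40), (258, 48), (258, 68), (258, 136), (258, 192), (260, 512), (260,
  1024), (260, 2048), (260, 9), (260, 24), (260, 33), (260, 40), (260, 48), (260, 65), (260, 129), (260, 160),
  (260, 192), (264, 512), (264, 1024), (264, 2048), (264, 33), (264, 65), (264, 96), (264, 129), (264, 192),
  (272, 64), (272, 1024), (272, 2048), (272, 65), (272, 66), (272, 72), (272, 160), (272, 192), (288, 512),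
  (288, 1024), (288, 2048), (288, 65), (288, 129), (320, 512), (320, 1024), (320, 2048), (320, 129), (384,
  512), (384, 1024), (384, 2048), (513, 256), (513, 1024), (513, 6), (513, 12), (513, 24), (513, 40), (513,
  48), (513, 66), (513, 68), (513, 160), (513, 192), (513, 258), (513, 260), (513, 272), (514, 32), (514,
  1024), (514, 2048), (514, 12), (514, 33), (514, 36), (514, 68), (514, 72), (514, 96), (514, 136), (514,
  160), (514, 192), (514, 264), (514, 272), (514, 384), (520, 1024), (520, 48), (520, 68), (520, 144), (520,
  320), (520, 384), (528, 64), (528, 1024), (528, 2048), (528, 36), (528, 66), (528, 68), (528, 72), (528,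
  132), (528, 160), (528, 192), (528, 260), (528, 320), (528, 384), (544, 2048), (544, 132), (544, 260), (544,
  320), (576, 1024), (576, 2048), (640, 1024), (640, 2048), (640, 260), (768, 2048), (1025, 256), (1025,
  2048), (1025, 10), (1025, 12), (1025, 18), (1025, 20), (1025, 24), (1025, 36), (1025, 96), (1025, 130),
  (1025, 136), (1025, 192), (1025, 258), (1025, 264), (1025, 272), (1025, 514), (1025, 576), (1025, 640),
  (1025, 768), (1026, 32), (1026, 2048), (1026, 12), (1026, 24), (1026, 33), (1026, 40), (1026, 68), (1026,
  96), (1026, 132), (1026, 136), (1026, 160), (1026, 192), (1026, 260), (1026, 320), (1026, 528), (1026, 544),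
  (1028, 512), (1028, 2048), (1028, 24), (1028, 48), (1028, 136), (1028, 144), (1028, 320), (1028, 384),
  (1028, 520), (1028, 528), (1028, 544), (1028, 640), (1028, 768), (1040, 64), (1040, 2048), (1040, 65),
  (1040, 68), (1040, 72), (1040, 96), (1040, 136), (1040, 160), (1040, 288), (1040, 384), (1040, 768), (1056,
  2048), (1056, 72), (1056, 264), (1056, 384), (1056, 520), (1056, 576), (1056, 640), (1056, 768), (1088,
  264), (1088, 520), (1088, 640), (1152, 2048), (1280, 520), (1536, 2048), (2049, 256), (2049, 10), (2049,
  36), (2049, 48), (2049, 66), (2049, 68), (2049, 72), (2049, 136), (2049, 144), (2049, 160), (2049, 258),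
  (2049, 272), (2049, 384), (2049, 514), (2049, 520), (2049, 528), (2049, 640), (2049, 768), (2049, 1028),
  (2049, 1040), (2049, 1056), (2049, 1280), (2050, 32), (2050, 12), (2050, 36), (2050, 40), (2050, 48), (2050,
  68), (2050, 72), (2050, 132), (2050, 160), (2050, 192), (2050, 260), (2050, 272), (2050, 288), (2050, 384),
  (2050, 528), (2050, 1040), (2050, 1152), (2050, 1280), (2050, 1536), (2052, 512), (2052, 24), (2052, 48),
  (2052, 192), (2052, 264), (2052, 272), (2052, 384), (2052, 513), (2052, 514), (2052, 520), (2052, 576),
  (2052, 640), (2052, 1056), (2052, 1088), (2052, 1152), (2056, 1024), (2056, 48), (2056, 144), (2056, 160),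
  (2056, 272), (2056, 288), (2056, 544), (2056, 576), (2056, 640), (2056, 1056), (2056, 1088), (2056, 1152),
  (2056, 1280), (2056, 1536), (2064, 64), (2064, 65), (2064, 68), (2064, 96), (2064, 160), (2064, 192), (2064,
  640), (2064, 1088), (2064, 1536), (2080, 320), (2080, 576), (2080, 640), (2080, 768), (2080, 1088), (2112,
  384), (2112, 768), (2112, 1152), (2112, 1280), (2304, 1152), (2304, 1536), (7, 40), (7, 96), (7, 192), (7,
  264), (7, 1088), (7, 1536), (7, 2064), (7, 2304), (7, 3072), (11, 160), (11, 192), (11, 272), (11, 528),
  (11, 640), (11, 1536), (11, 2064), (19, 576), (19, 640), (19, 1056), (19, 1088), (19, 2080), (35, 2560),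
  (67, 384), (67, 768), (67, 3072), (131, 1280), (131, 2560), (131, 3072), (21, 40), (21, 72), (21, 160), (21,
  288), (21, 1280), (21, 1536), (21, 2056), (21, 2560), (37, 576), (37, 640), (37, 1152), (37, 2056), (133,
  520), (133, 1088), (133, 1280), (133, 2056), (133, 2112), (261, 2112), (1029, 72), (22, 72), (22, 384), (22,
  520), (22, 768), (22, 1056), (22, 1280), (22, 2112), (22, 3072), (38, 384), (38, 1152), (38, 2112), (70,
  136), (70, 264), (70, 640), (134, 264), (134, 1536), (134, 2056), (262, 2560), (1030, 2056), (25, 192), (25,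
  384), (25, 3072), (41, 576), (41, 1088), (41, 1152), (41, 2112), (41, 2304), (73, 640), (73, 768), (265,
  2560), (521, 3072), (42, 144), (42, 320), (42, 576), (42, 2560), (74, 1152), (74, 1536), (74, 2304), (138,
  2064), (266, 1040), (266, 2560), (266, 3072), (522, 2064), (28, 160), (28, 384), (28, 640), (28, 1056), (44,
  768), (44, 1280), (44, 2112), (44, 2560), (76, 768), (76, 2304), (76, 3072), (140, 1280), (49, 192), (49,
  1152), (49, 1536), (49, 2304), (49, 518), (49, 74), (81, 2560), (81, 262), (145, 768), (145, 1536), (145,
  3072), (273, 524), (50, 640), (50, 768), (82, 1152), (82, 2304), (146, 1280), (146, 1536), (146, 2304), (84,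
  288), (84, 384), (84, 1152), (148, 2080), (148, 3072), (276, 3072), (532, 2080), (56, 320), (56, 384), (56,
  768), (56, 2112), (56, 3072), (88, 2560), (280, 1536), (280, 2560), (536, 1152), (289, 640), (289, 1088),
  (289, 1536), (289, 1030), (289, 522), (289, 146), (289, 1048), (545, 2112), (545, 3072), (545, 1036), (1057,
  2058), (2081, 192), (2081, 134), (100, 1152), (100, 1280), (100, 1536), (100, 2304), (100, 1034), (100,
  146), (100, 536), (164, 2304), (164, 522), (1060, 2304), (104, 640), (168, 768), (168, 1536), (168, 2304),
  (552, 1042), (112, 640), (112, 1536), (304, 2560), (304, 3072), (560, 3072), (193, 2066), (193, 532), (321,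
  3072), (321, 1034), (321, 2072), (321, 560), (577, 3072), (577, 1048), (98, 384), (98, 3072), (322, 1536),
  (322, 2560), (322, 2081), (322, 548), (322, 1072), (1090, 2560), (1090, 532), (1090, 2072), (2114, 640),
  (2114, 168), (2114, 560), (196, 768), (196, 2072), (324, 1048), (580, 3072), (200, 1280), (200, 2304), (200,
  2560), (200, 1072), (224, 768), (224, 1280), (224, 3072), (385, 518), (385, 2058), (385, 2068), (385, 108),
  (1153, 30), (1153, 2120), (386, 1536), (386, 1064), (642, 2068), (2178, 1072), (644, 1096), (644, 2144),
  (2180, 1064), (400, 2560), (400, 1089), (400, 2144), (1184, 2560), (704, 1280), (290, 1536), (290, 3072),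
  (770, 1036), (770, 216), (770, 2208), (282, 2084), (772, 3072), (772, 2081), (772, 1089), (772, 2184),
  (1284, 2057), (776, 1153), (1288, 2192), (336, 1536), (336, 3072), (2320, 580), (1312, 2177), (832, 2177),
  (896, 3072), (1537, 226), (1537, 2180), (519, 2120), (537, 2208), (1538, 2084), (1538, 2184), (1544, 2068),
  (1552, 2240), (1552, 420), (3073, 116), (3073, 786), (3074, 452), (3104, 840)]

/-- The set of the indices of the octads. -/
def octSet : ℕ :=
  3069183258344488755150436757045500734734386707736967401854761329990245835721955998001296709449210057323895479229278706294939935881676249949233902446924732383822324106560355738967702735953610269613380027136487130419034875700417793865121874889823404120879429320528186871193649336097126642903279754481044246529424426009674377973800690446673934811672452611235162161959446408619436986189276512280313693281474502555609741965846799242144722060200390459824214473956273015046501650822469817982479986334011603346173908040965202125135931583065815048327841826723316476641892163651689288107881150851413341253892699362880046935230879716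600999199497233604503187052089482540799122896359538062228311028312148824202573303076056116986357052710220562776734843547435006920133177138496353984219247467908011135954416631321008382260446387861453072834811375165422046243849637820790828433490348426656334046372602880406819188427198614575185835765609313976083539957559311665695767854714297627383243936776858768235557236472041045565260009619902082338021555814710661774232428147483760070871941990946190796662527585552861785344365668294826164368971017058922572287089721113167890236003223427155146248838345944483645086456848382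

/-- The basis octads. -/
def start : ℕ :=
  (((((((((((0 ||| 1 <<< 1) ||| 1 <<< 2) ||| 1 <<< 4) ||| 1 <<< 8) ||| 1 <<< 16) ||| 1 <<< 32) ||| 1 <<< 64) |||
    1 <<< 128) ||| 1 <<< 256) ||| 1 <<< 512) ||| 1 <<< 1024) ||| 1 <<< 2048

theorem go_steps : Nat.beq (go steps start) octSet = true := by decide +kernel

theorem octSet_all : allR 12 0 (fun i => !(Nat.beq (popcount (enc i)) 8) || octSet.testBit i) = true := by
  decide +kernel

/-- Induction over the octads. -/
theorem octad_induction {Q : ℕ → Prop} (h0 : ∀ k < 12, Q (2 ^ k))
    (hQ : ∀ i j, Q i → Q j → Good (cw i) (cw j) → Q (i ^^^ j)) (i : ℕ) (hi : i < 4096)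
    (hw : wt (cw i) = 8) : Q i := by
  have h1 : octSet.testBit i = true := by
    have h := allR_zero_spec octSet_all i hi
    rw [wt_cw] at hw
    rw [hw] at h
    simpa using h
  rw [← Nat.eq_of_beq_eq_true go_steps] at h1
  refine go_spec hQ steps start ?_ i h1
  unfold start
  have z : ∀ i, (0 : ℕ).testBit i = true → Q i := fun i hi => by
    rw [Nat.zero_testBit] at hi; exact absurd hi (by decide)
  exact or_spec (or_spec (or_spec (or_spec (or_spec (or_spec (or_spec (or_spec (or_spec (or_spec (or_spec (or_spec z
    (h0 0 (by norm_num))) (h0 1 (by norm_num))) (h0 2 (by norm_num))) (h0 3 (by norm_num))) (h0 4 (by norm_num)))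
    (h0 5 (by norm_num))) (h0 6 (by norm_num))) (h0 7 (by norm_num))) (h0 8 (by norm_num))) (h0 9 (by norm_num)))
    (h0 10 (by norm_num))) (h0 11 (by norm_num))

theorem wt_basis : ∀ k < 12, wt (cw (2 ^ k)) = 8 := by
  intro k hk
  rw [wt_cw]
  have h : ∀ k < 12, popcount (enc (2 ^ k)) = 8 := by decide +kernel
  exact h k hk

end Cfsg.Agent.KFacts.MulY.OctadGen
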