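import Cfsg.Agent.Bimonster.Lift

/-!
# Lifting a system of involutions along a subtree of `Y555` to a central extension

`S : ℕ → Bool` is a set of letters of `Y555` closed under the parent. A family with the Coxeter relations on `S` in `P`
lifts through a central extension `π : E → P` to a family with the braid relations along the edges (`exists_lift`), with
equal squares (`lift_sq`), and all commutations if one of them is known (`lift_comm`). An odd word which is trivial in
`P` gives such a commutation (`comm_of_odd`).
-/

set_option autoImplicit false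
set_option linter.unusedVariables false

namespace Cfsg.Agent.KFacts.MulY.Tree

open Cfsg.Agent.Bimonster Cfsg.Agent.Bimonster.Tits
open scoped commutatorElement

/-- moves for the letters in `S` -/
def rulesS (S : ℕ → Bool) : Rules where
  sq i := S i
  cm i j := S i && S j && !adjB i j
  br i j := S i && S j && adjB i j

variable {G : Type*} [Group G] {S : ℕ → Bool}

/-- the Coxeter relations on the letters in `S` -/
structure CoxS (S : ℕ → Bool) (t : ℕ → G) : Prop where
  sq : ∀ i, S i = true → t i * t i = 1
  cm : ∀ i j, S i = true → S j = true → adjB i j = false → t i * t j = t j * t i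
  br : ∀ i j, S i = true → S j = true → adjB i j = true → t i * t j * t i = t j * t i * t j

/-- the Artin relations on the letters in `S`, with a common central square -/
structure ArtS (S : ℕ → Bool) (t : ℕ → G) (z : G) : Prop where
  sq : ∀ i, S i = true → t i * t i = z
  cm : ∀ i j, S i = true → S j = true → adjB i j = false → t i * t j = t j * t i
  br : ∀ i j, S i = true → S j = true → adjB i j = true → t i * t j * t i = t j * t i * t j
  central : ∀ g : G, z * g = g * z

theorem ArtS.valid {t : ℕ → G} {z : G} (h : ArtS S t z) : Valid (rulesS S) t z where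
  sq i hi := h.sq i hi
  cm i j hij := by
    simp only [rulesS, Bool.and_eq_true, Bool.not_eq_true'] at hij
    exact h.cm i j hij.1.1 hij.1.2 hij.2
  br i j hij := by
    simp only [rulesS, Bool.and_eq_true] at hij
    exact h.br i j hij.1.1 hij.1.2 hij.2
  central := h.central

theorem CoxS.art {t : ℕ → G} (h : CoxS S t) : ArtS S t 1 where
  sq := h.sq
  cm := h.cm
  br := h.br
  central g := by simp

theorem CoxS.valid {t : ℕ → G} (h : CoxS S t) : Valid (rulesS S) t 1 := h.art.valid

theorem CoxS.map {H : Type*} [Group H] (f : G →* H) {t : ℕ → G} (h : CoxS S t) :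
    CoxS S (fun i => f (t i)) where
  sq i hi := by simp only [← map_mul, h.sq i hi, map_one]
  cm i j hi hj hij := by simp only [← map_mul, h.cm i j hi hj hij]
  br i j hi hj hij := by simp only [← map_mul, h.br i j hi hj hij]

/-- a certificate for a trivial word -/
def nilS (S : ℕ → Bool) (c w : List ℕ) : Bool :=
  match run (rulesS S) c 0 w with
  | some (_, []) => true
  | _ => false

theorem nilS_sound {x : ℕ → G} (h : CoxS S x) {c w : List ℕ} (hw : nilS S c w = true) : ev x w = 1 := by
  unfold nilS at hw
  split at hw
  · rename_i k hk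
    rw [eq_of_run h.valid hk, one_pow]
  · simp at hw

theorem eq_of_nilS {x : ℕ → G} (h : CoxS S x) {c w v : List ℕ}
    (hv : ∀ i ∈ v, S i = true) (hw : nilS S c (w ++ v.reverse) = true) : ev x w = ev x v := by
  have := nilS_sound h hw
  rw [ev_append, ev_reverse (fun i hi => h.sq i (hv i hi))] at this
  exact mul_inv_eq_one.mp this

/-- the set of letters is closed under the parent -/
def okS (S : ℕ → Bool) : Prop := (∀ i, S i = true → i < 16) ∧ ∀ i, 0 < i → S i = true → S (par i) = true

variable {E P : Type*} [Group E] [Group P] {π : E →* P}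

theorem par_lt : ∀ m < 16, 0 < m → par m < m ∧ adjB (par m) m = true := by decide

/-- lifts with exact braid relations along the tree -/
theorem exists_lift (h : Ext π) (hS : okS S) {x : ℕ → P} (hx : CoxS S x) :
    ∃ y : ℕ → E, (∀ i, π (y i) = x i) ∧
      ∀ j, 0 < j → S j = true → y (par j) * y j * y (par j) = y j * y (par j) * y j := by
  have key : ∀ n, n ≤ 16 → ∃ y : ℕ → E, (∀ i, π (y i) = x i) ∧
      ∀ j, 0 < j → j < n → S j = true → y (par j) * y j * y (par j) = y j * y (par j) * y j := by
    intro n
    induction n with
    | zero =>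
      intro _
      choose y hy using fun i => h.surj (x i)
      exact ⟨y, hy, fun j h1 h2 => absurd h2 (by omega)⟩
    | succ n ih =>
      intro hn
      obtain ⟨y, hy, hb⟩ := ih (by omega)
      by_cases h0 : n = 0
      · subst h0
        exact ⟨y, hy, fun j h1 h2 => absurd h2 (by omega)⟩
      by_cases hSn : S n = true
      · obtain ⟨hp1, hp2⟩ := par_lt n (by omega) (by omega)
        have hbr := hx.br (par n) n (hS.2 n (by omega) hSn) hSn hp2
        obtain ⟨k, hk, hk2⟩ := h.eq_mul (a := y (par n) * y n * y (par n))
          (b := y n * y (par n) * y n) (by simp only [map_mul, hy, hbr])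
        refine ⟨Function.update y n (k * y n), ?_, ?_⟩
        · intro i
          by_cases hi : i = n
          · subst hi
            rw [Function.update_self, map_mul, hk, one_mul, hy]
          · rw [Function.update_of_ne hi, hy]
        · intro j h1 h2 h3
          have hpj := (par_lt j (by omega) h1).1
          rw [Function.update_of_ne (show par j ≠ n by omega)]
          by_cases hj : j = n
          · subst hj
            rw [Function.update_self]
            have hc := h.cen k hk
            calc y (par j) * (k * y j) * y (par j)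
                = (y (par j) * k) * y j * y (par j) := by group
              _ = k * (y (par j) * y j * y (par j)) := by rw [← hc]; group
              _ = k * (k * (y j * y (par j) * y j)) := by rw [hk2]
              _ = k * (k * (y j * y (par j))) * y j := by simp only [mul_assoc]
              _ = k * (y j * y (par j) * k) * y j := by rw [hc (y j * y (par j))]
              _ = k * y j * y (par j) * (k * y j) := by simp only [mul_assoc]
          · rw [Function.update_of_ne hj]
            exact hb j h1 (by omega) h3
      · refine ⟨y, hy, fun j h1 h2 h3 => ?_⟩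
        by_cases hj : j = n
        · rw [hj] at h3; exact absurd h3 hSn
        · exact hb j h1 (by omega) h3
  obtain ⟨y, hy, hb⟩ := key 16 le_rfl
  exact ⟨y, hy, fun j h1 h2 => hb j h1 (hS.1 j h2) h2⟩

/-- the edges of `Y555` -/
theorem adj_par : ∀ i < 16, ∀ j < 16, adjB i j = true → (0 < j ∧ i = par j) ∨ (0 < i ∧ j = par i) := by
  decide

theorem braid_all (hS : okS S) {y : ℕ → E}
    (hb : ∀ j, 0 < j → S j = true → y (par j) * y j * y (par j) = y j * y (par j) * y j) :
    ∀ i j, S i = true → S j = true → adjB i j = true → y i * y j * y i = y j * y i * y j := by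
  intro i j hi hj hij
  rcases adj_par i (hS.1 i hi) j (hS.1 j hj) hij with ⟨h0, rfl⟩ | ⟨h0, rfl⟩
  · exact hb j h0 hj
  · exact (hb i h0 hi).symm

theorem comm_cenS (h : Ext π) {x : ℕ → P} (hx : CoxS S x) {y : ℕ → E} (hy : ∀ i, π (y i) = x i) :
    ∀ i j, S i = true → S j = true → adjB i j = false → π ⁅y i, y j⁆ = 1 := by
  intro i j hi hj hij
  apply h.comm_cen
  rw [hy, hy]
  exact hx.cm i j hi hj hij

/-- two adjacent nodes have the same commutator with a third one -/
theorem comm_adjS (h : Ext π) {x : ℕ → P} (hx : CoxS S x) {y : ℕ → E} (hy : ∀ i, π (y i) = x i)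
    (hb : ∀ i j, S i = true → S j = true → adjB i j = true → y i * y j * y i = y j * y i * y j) :
    ∀ i j k, S i = true → S j = true → S k = true → adjB j k = true → adjB i j = false →
      adjB i k = false → ⁅y i, y j⁆ = ⁅y i, y k⁆ := by
  intro i j k hi hj hk hjk hij hik
  exact h.comm_adj (comm_cenS h hx hy i j hi hj hij) (comm_cenS h hx hy i k hi hk hik) (hb j k hj hk hjk)

/-- a walk which avoids the node `i` and its neighbours -/
def walkOk (S : ℕ → Bool) (i : ℕ) : List ℕ → Bool
  | [] => true
  | [j] => S j && !adjB i j
  | j :: k :: l => S j && !adjB i j && adjB j k && walkOk S i (k :: l)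

theorem walk_sound (h : Ext π) {x : ℕ → P} (hx : CoxS S x) {y : ℕ → E} (hy : ∀ i, π (y i) = x i)
    (hb : ∀ i j, S i = true → S j = true → adjB i j = true → y i * y j * y i = y j * y i * y j) {i : ℕ}
    (hi : S i = true) {j : ℕ} {l : List ℕ} (hw : walkOk S i (j :: l) = true) :
    ∀ k ∈ l, ⁅y i, y k⁆ = ⁅y i, y j⁆ := by
  induction l generalizing j with
  | nil => simp
  | cons k l ih =>
    rw [walkOk, Bool.and_eq_true, Bool.and_eq_true, Bool.and_eq_true, Bool.not_eq_true'] at hw
    obtain ⟨⟨⟨h1, h2⟩, h3⟩, h4⟩ := hw
    have h5 : S k = true ∧ adjB i k = false := by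
      cases l with
      | nil =>
        rw [walkOk, Bool.and_eq_true, Bool.not_eq_true'] at h4
        exact h4
      | cons m l =>
        rw [walkOk, Bool.and_eq_true, Bool.and_eq_true, Bool.and_eq_true, Bool.not_eq_true'] at h4
        exact h4.1.1
    have e := comm_adjS h hx hy hb i j k hi h1 h5.1 h3 h2 h5.2
    intro m hm
    rcases List.mem_cons.1 hm with rfl | hm
    · exact e.symm
    · rw [ih h4 m hm, e]

/-- **A commutation from an odd word** `w` with `x i * ev x w = ev x w * x i` in `E` up to the kernel: if the value of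
`w` commutes with `y i` and its letters are connected outside the neighbourhood of `i`, then `y i` commutes with
them. -/
theorem comm_of_odd (h : Ext π) {x : ℕ → P} (hx : CoxS S x) {y : ℕ → E} (hy : ∀ i, π (y i) = x i)
    (hb : ∀ i j, S i = true → S j = true → adjB i j = true → y i * y j * y i = y j * y i * y j) {i : ℕ}
    (hi : S i = true) {j : ℕ} {l : List ℕ} (hw : walkOk S i (j :: l) = true) {w : List ℕ} (hodd : Odd w.length)
    (hwl : ∀ k ∈ w, k ∈ l) (hc : ⁅y i, ev y w⁆ = 1) : ⁅y i, y j⁆ = 1 := by
  have hwalk := walk_sound h hx hy hb hi hw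
  have hj : S j = true ∧ adjB i j = false := by
    cases l with
    | nil =>
      rw [walkOk, Bool.and_eq_true, Bool.not_eq_true'] at hw
      exact hw
    | cons m l =>
      rw [walkOk, Bool.and_eq_true, Bool.and_eq_true, Bool.and_eq_true, Bool.not_eq_true'] at hw
      exact hw.1.1
  have hc1 : π ⁅y i, y j⁆ = 1 := comm_cenS h hx hy i j hi hj.1 hj.2
  have h1 := (h.comm_ev (g := y i) (y := y) (w := w) hc1 fun k hk => hwalk k (hwl k hk)).1
  rw [hc] at h1
  have h2 : ⁅y i, y j⁆ * ⁅y i, y j⁆ = 1 := h.comm_sq (by rw [map_mul, hy, hx.sq i hi]) hc1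
  obtain ⟨m, hm⟩ := hodd
  rw [hm, pow_succ, pow_mul, pow_two, h2, one_pow, one_mul] at h1
  exact h1.symm

/-- the closure of a set of pairs under moves: certificate -/
def closeS (S : ℕ → Bool) : List (ℕ × ℕ × ℕ) → List (ℕ × ℕ) → Option (List (ℕ × ℕ))
  | [], l => some l
  | (i, j, k) :: s, l =>
    if (S i && S j && S k && hasP l i j && adjB j k && !adjB i j && !adjB i k) = true then
      closeS S s ((i, k) :: l) else none

/-- all commuting pairs occur -/
def allS (S : ℕ → Bool) (s : List (ℕ × ℕ × ℕ)) (i j : ℕ) : Bool :=
  match closeS S s [(i, j)] with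
  | some l => (List.range 16).all fun i => (List.range 16).all fun j =>
      !(S i && S j) || adjB i j || Nat.beq i j || hasP l i j
  | none => false

theorem closeS_sound {R : ℕ → ℕ → Prop} (hs : ∀ i j, R i j → R j i)
    (hstep : ∀ i j k, S i = true → S j = true → S k = true → R i j → adjB j k = true → adjB i j = false →
      adjB i k = false → R i k) {s : List (ℕ × ℕ × ℕ)} {l l' : List (ℕ × ℕ)}
    (hl : ∀ p ∈ l, R p.1 p.2) (hc : closeS S s l = some l') : ∀ p ∈ l', R p.1 p.2 := by
  induction s generalizing l with
  | nil =>
    simp only [closeS, Option.some.injEq] at hc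
    rw [← hc]; exact hl
  | cons a s ih =>
    obtain ⟨i, j, k⟩ := a
    rw [closeS] at hc
    split_ifs at hc with hif
    simp only [Bool.and_eq_true, Bool.not_eq_true'] at hif
    obtain ⟨⟨⟨⟨⟨⟨hi, hj⟩, hk⟩, hp⟩, h1⟩, h2⟩, h3⟩ := hif
    refine ih ?_ hc
    intro p hp'
    rcases List.mem_cons.mp hp' with rfl | hp'
    · refine hstep i j k hi hj hk ?_ h1 h2 h3
      unfold hasP at hp
      rw [Bool.or_eq_true, List.contains_iff_mem, List.contains_iff_mem] at hp
      rcases hp with hp | hp
      · exact hl _ hp
      · exact hs _ _ (hl _ hp)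
    · exact hl p hp'

/-- **All the commutations** from one of them. -/
theorem lift_comm (h : Ext π) (hS : okS S) {x : ℕ → P} (hx : CoxS S x) {y : ℕ → E} (hy : ∀ i, π (y i) = x i)
    (hb : ∀ i j, S i = true → S j = true → adjB i j = true → y i * y j * y i = y j * y i * y j)
    {s : List (ℕ × ℕ × ℕ)} {a b : ℕ} (hok : allS S s a b = true) (hab : ⁅y a, y b⁆ = 1) :
    ∀ i j, S i = true → S j = true → adjB i j = false → y i * y j = y j * y i := by
  unfold allS at hok
  split at hok
  · rename_i l hl
    have hR := closeS_sound (S := S) (R := fun i j => ⁅y i, y j⁆ = 1)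
      (fun i j hij => by rw [Ext.comm_inv', hij, inv_one])
      (fun i j k hi hj hk hij hjk h1 h2 => by
        rw [← comm_adjS h hx hy hb i j k hi hj hk hjk h1 h2]; exact hij)
      (l := [(a, b)]) (by
        intro p hp
        rw [List.mem_singleton] at hp
        rw [hp]; exact hab) hl
    rw [List.all_eq_true] at hok
    intro i j hi hj hij
    have h1 := hok i (List.mem_range.mpr (hS.1 i hi))
    rw [List.all_eq_true] at h1
    have h2 := h1 j (List.mem_range.mpr (hS.1 j hj))
    rw [hi, hj, hij, Bool.or_false, Bool.and_self, Bool.not_true, Bool.false_or, Bool.or_eq_true] at h2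
    rcases h2 with h2 | h2
    · obtain rfl := Nat.eq_of_beq_eq_true h2
      rfl
    · unfold hasP at h2
      rw [Bool.or_eq_true, List.contains_iff_mem, List.contains_iff_mem] at h2
      have h3 : ⁅y i, y j⁆ = 1 := by
        rcases h2 with h2 | h2
        · exact hR _ h2
        · have := hR _ h2
          rw [Ext.comm_inv', this, inv_one]
      exact commutatorElement_eq_one_iff_mul_comm.mp h3
  · simp at hok

/-- the squares of the lifts are equal -/
theorem lift_sq (h : Ext π) (hS : okS S) {x : ℕ → P} (hx : CoxS S x) {y : ℕ → E} (hy : ∀ i, π (y i) = x i)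
    (hb : ∀ j, 0 < j → S j = true → y (par j) * y j * y (par j) = y j * y (par j) * y j) :
    ∀ j, S j = true → y j * y j = y 0 * y 0 := by
  intro j
  induction j using Nat.strong_induction_on with
  | _ j ih =>
    intro hj
    by_cases h0 : j = 0
    · rw [h0]
    have hj0 : 0 < j := by omega
    have hpj := (par_lt j (hS.1 j hj) hj0).1
    have hSp := hS.2 j hj0 hj
    rw [← ih (par j) hpj hSp]
    have hbr := hb j hj0 hj
    have hc := h.cen (y (par j) * y (par j)) (by rw [map_mul, hy, hx.sq _ hSp])
    have e : y j = (y (par j) * y j) * y (par j) * (y (par j) * y j)⁻¹ := by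
      rw [show y (par j) * y j * y (par j) = y j * (y (par j) * y j) by rw [hbr]; group]; group
    calc y j * y j = ((y (par j) * y j) * y (par j) * (y (par j) * y j)⁻¹) *
          ((y (par j) * y j) * y (par j) * (y (par j) * y j)⁻¹) := by rw [← e]
      _ = (y (par j) * y j) * (y (par j) * y (par j)) * (y (par j) * y j)⁻¹ := by group
      _ = y (par j) * y (par j) := by rw [← hc]; group

/-- scaling -/
theorem scale {k : E} (hk : ∀ g, k * g = g * k) (hkk : k * k = 1) {y : ℕ → E} (hy : CoxS S y) :
    CoxS S (fun i => k * y i) := by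
  have e : ∀ a b : E, k * a * (k * b) = a * b := by
    intro a b
    calc k * a * (k * b) = k * (a * k) * b := by group
      _ = k * k * (a * b) := by rw [← hk]; group
      _ = a * b := by rw [hkk, one_mul]
  refine ⟨fun i hi => ?_, fun i j hi hj hij => ?_, fun i j hi hj hij => ?_⟩
  · rw [e, hy.sq i hi]
  · rw [e, e, hy.cm i j hi hj hij]
  · have e2 : ∀ g b : E, g * (k * b) = k * (g * b) := fun g b => by
      rw [← mul_assoc, ← hk, mul_assoc]
    rw [e, e, e2, e2, hy.br i j hi hj hij]

end Cfsg.Agent.KFacts.MulY.Tree
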